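import Cfsg.Agent.Lib.DCE.ActRel

/-!
Repetitions of a word of steps through recorded short representatives.
-/

namespace CfsgLib.DCE

open CfsgLib.PresCert

/-- the word `l` leads from each entry to the next -/
noncomputable def okPath (A : Act) (l : List Nat) (st : List (Nat × List Nat))
    (hints : List Nat) : Bool :=
  Nat.blt (nat_lit 0) st.length && (st.all fun e => A.okW e.2 && Nat.blt e.1 A.orbs.length) &&
    allBelow (Nat.sub st.length (nat_lit 1)) fun i =>
      let a := st.getD i (nat_lit 0, [])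
      let b := st.getD (Nat.add i (nat_lit 1)) (nat_lit 0, [])
      let p := A.runW l a
      Nat.beq p.1 b.1 && TOrb.okDiv A.ft (A.orb b.1).tup p.2 b.2 (hints.getD i (nat_lit 0))

namespace ActModel

variable {A : Act} {H : Type*} [Group H] (N : ActModel A H)

theorem iterate_of_path {l : List Nat} {st : List (Nat × List Nat)} {hints : List Nat}
    (h : okPath A l st hints = true) :
    ∀ i, i < st.length → ∃ h0 : (st.getD 0 (0, [])).1 < A.orbs.length,
      ∃ hi : (st.getD i (0, [])).1 < A.orbs.length,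
        (N.run l)^[i] (N.pnt ⟨_, h0⟩ (N.M.val (st.getD 0 (0, [])).2)) =
          N.pnt ⟨_, hi⟩ (N.M.val (st.getD i (0, [])).2) := by
  simp only [okPath, Bool.and_eq_true, Nat.blt_eq, List.all_eq_true] at h
  obtain ⟨⟨hpos, hst⟩, hstep⟩ := h
  have hmem : ∀ i < st.length,
      (∀ x ∈ (st.getD i (0, [])).2, x < A.P.g) ∧ (st.getD i (0, [])).1 < A.orbs.length := by
    intro i hi
    rw [List.getD_eq_getElem?_getD, List.getElem?_eq_getElem hi, Option.getD_some]
    exact ⟨ActBase.okW_lt (hst _ (List.getElem_mem hi)).1, (hst _ (List.getElem_mem hi)).2⟩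
  intro i
  induction i with
  | zero => intro _; exact ⟨(hmem 0 hpos).2, (hmem 0 hpos).2, rfl⟩
  | succ i ih =>
    intro hi
    obtain ⟨h0, hi', e⟩ := ih (by omega)
    have hc := allBelow_spec hstep i (show i < Nat.sub st.length 1 by
      show i < st.length - 1
      omega)
    simp only [Bool.and_eq_true, Nat.beq_eq] at hc
    obtain ⟨hj', hd⟩ := hc
    refine ⟨h0, (hmem (i + 1) hi).2, ?_⟩
    rw [Function.iterate_succ_apply', e]
    obtain ⟨hj, h1, h2⟩ := N.run_word l ⟨_, hi'⟩ (st.getD i (0, [])).2 (hmem i (by omega)).1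
    rw [h2]
    refine N.pnt_congr (Fin.ext hj') ?_
    have := N.fin
    have hw := (hmem (i + 1) hi).1
    have hk := (hmem (i + 1) hi).2
    have hm := TOrb.inX_mem N.M (A.orb (st.getD (i + 1) (0, [])).1).tup N.flat
      (N.orb_spec hk).1 (N.orb_spec hk).2.2 (N.tup_card _ hk)
      (TOrb.okDiv_inX N.M _ N.flat h1 hw hd)
    have ek : (⟨(A.runW l (st.getD i (0, []))).1, hj⟩ : Fin A.orbs.length) = ⟨_, hk⟩ := Fin.ext hj'
    show _ ∈ N.stab ⟨_, hj⟩
    rw [ek]
    exact hm

end ActModel

end CfsgLib.DCE
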