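import Cfsg.Agent.Lib.DCE.Action

/-!
Relations in the action: letters move points on the right, the letters from `g` on stand for `T`.
-/

namespace CfsgLib.DCE

open CfsgLib.PresCert

namespace Act

variable (A : Act)

/-- one step, in words -/
noncomputable def stepW (p : Nat × List Nat) (x : Nat) : Nat × List Nat :=
  bif Nat.blt x A.P.g then (p.1, p.2 ++ [x]) else A.tauW p.1 p.2

/-- a word of steps, in words -/
noncomputable def runW (l : List Nat) (p : Nat × List Nat) : Nat × List Nat := l.foldl A.stepW p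

/-- the steps `l` lead from `(k, w)` back to it -/
noncomputable def okBack (l : List Nat) (k : Nat) (w : List Nat) (hint : Nat) : Bool :=
  let p := A.runW l (k, w)
  A.okW w && Nat.beq p.1 k && TOrb.okDiv A.ft (A.orb k).tup p.2 w hint

/-- the steps `l` return at every root moved by every listed word -/
noncomputable def okBacks (l : List Nat) (Ts : List (List Nat)) (hints : BTree) (k lo len : Nat) :
    Bool :=
  allBelow len fun d =>
    let a := Nat.add lo d
    allBelow Ts.length fun i =>
      A.okBack l k ((A.root k a).r ++ Ts.getD i []) (hints.word (Nat.add (Nat.mul a Ts.length) i))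

/-- the listed words represent the cosets of the centraliser of `z` in the group of `gens` -/
noncomputable def okCover (gens : List (List Nat)) (z : List Nat) (base : List Nat)
    (Ts : List (List Nat)) (nx : BTree) : Bool :=
  Nat.blt (nat_lit 0) Ts.length && (Ts.getD (nat_lit 0) [] == []) &&
    (Ts.all fun a => A.okW a) && A.okW z && (gens.all fun w => A.okW w) &&
    allBelow Ts.length fun i => allBelow gens.length fun q =>
      let t := nx.word (Nat.add (Nat.mul i gens.length) q)
      let d := ivw (Ts.getD t []) ++ (gens.getD q [] ++ Ts.getD i [])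
      Nat.blt t Ts.length && Nat.beq (fapp A.ft d A.pt) A.pt &&
        base.all fun b => Nat.beq (fapp A.ft (d ++ z) b) (fapp A.ft (z ++ d) b)

end Act

noncomputable section

namespace ActModel

variable {A : Act} {H : Type*} [Group H] (N : ActModel A H)

/-- one step -/
def step (z : N.Omega) (x : Nat) : N.Omega :=
  if x < A.P.g then (N.M.val [x])⁻¹ • z else N.tau z

/-- a word of steps -/
def run (l : List Nat) (z : N.Omega) : N.Omega := l.foldl N.step z

theorem run_cons (x : Nat) (l : List Nat) (z : N.Omega) :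
    N.run (x :: l) z = N.run l (N.step z x) := rfl

theorem run_nil (z : N.Omega) : N.run [] z = z := rfl

theorem run_word : ∀ (l : List Nat) (k : Fin A.orbs.length) (w : List Nat),
    (∀ x ∈ w, x < A.P.g) →
      ∃ hj : (A.runW l (k, w)).1 < A.orbs.length, (∀ x ∈ (A.runW l (k, w)).2, x < A.P.g) ∧
        N.run l (N.pnt k (N.M.val w)) =
          N.pnt ⟨(A.runW l (k, w)).1, hj⟩ (N.M.val (A.runW l (k, w)).2) := by
  intro l
  induction l with
  | nil => intro k w hw; exact ⟨k.2, hw, rfl⟩
  | cons x l ih =>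
    intro k w hw
    have hA : A.runW (x :: l) (↑k, w) = A.runW l (A.stepW (↑k, w) x) := rfl
    by_cases hx : x < A.P.g
    · have e : A.stepW (↑k, w) x = (↑k, w ++ [x]) := by
        have hb : Nat.blt x A.P.g = true := by rw [Nat.blt_eq]; exact hx
        simp [Act.stepW, hb]
      have hw' : ∀ y ∈ w ++ [x], y < A.P.g := by
        simp only [List.mem_append, List.mem_singleton]
        rintro y (hy | rfl)
        · exact hw y hy
        · exact hx
      obtain ⟨hj, h1, h2⟩ := ih k (w ++ [x]) hw'
      have hs : N.step (N.pnt k (N.M.val w)) x = N.pnt k (N.M.val (w ++ [x])) := by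
        rw [step, if_pos hx, N.smul_pnt, inv_inv, N.M.val_append]
      simp only [hA, e, run_cons, hs]
      exact ⟨hj, h1, h2⟩
    · have e : A.stepW (↑k, w) x = A.tauW k w := by
        have : Nat.blt x A.P.g = false := Bool.eq_false_iff.2 fun h => hx (by rwa [Nat.blt_eq] at h)
        simp [Act.stepW, this]
      obtain ⟨hj0, h10, h20⟩ := N.tau_word k hw
      obtain ⟨hj, h1, h2⟩ := ih ⟨_, hj0⟩ _ h10
      have hs : N.step (N.pnt k (N.M.val w)) x =
          N.pnt ⟨(A.tauW k w).1, hj0⟩ (N.M.val (A.tauW k w).2) := by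
        rw [step, if_neg hx, h20]
      simp only [hA, e, run_cons, hs]
      exact ⟨hj, h1, h2⟩

theorem back_of_ok {l : List Nat} (k : Fin A.orbs.length) {w : List Nat} {hint : Nat}
    (h : A.okBack l k w hint = true) : N.run l (N.pnt k (N.M.val w)) = N.pnt k (N.M.val w) := by
  simp only [Act.okBack, Bool.and_eq_true, Nat.beq_eq] at h
  obtain ⟨⟨hw, hk⟩, hd⟩ := h
  obtain ⟨hj, h1, h2⟩ := N.run_word l k w (ActBase.okW_lt hw)
  rw [h2]
  refine (N.pnt_congr (Fin.ext hk.symm) ?_).symm
  have := N.fin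
  have hm := TOrb.inX_mem N.M (A.orb k).tup N.flat (N.orb_spec k.2).1 (N.orb_spec k.2).2.2
    (N.tup_card k k.2) (TOrb.okDiv_inX N.M _ N.flat h1 (ActBase.okW_lt hw) hd)
  have h3 := inv_mem hm
  rw [mul_inv_rev, inv_inv] at h3
  exact h3

theorem backs_of_ok {l : List Nat} {Ts : List (List Nat)} {hints : BTree} (k : Fin A.orbs.length)
    {lo len : Nat} (h : A.okBacks l Ts hints k lo len = true) :
    ∀ a, lo ≤ a → a < lo + len → ∀ i < Ts.length,
      N.run l (N.pnt k (N.M.val ((A.root k a).r ++ Ts.getD i []))) =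
        N.pnt k (N.M.val ((A.root k a).r ++ Ts.getD i [])) := by
  intro a h1 h2 i hi
  have := allBelow_spec (allBelow_spec h (a - lo) (by omega)) i hi
  rw [show Nat.add lo (a - lo) = a from Nat.add_sub_cancel' h1] at this
  exact N.back_of_ok k this

/-- the special point -/
def special : Fin A.P.n := ⟨A.pt, N.pt_lt⟩

/-- A relation commuting with a subgroup `C` holds everywhere, if it holds at the roots moved by
representatives for the cosets of `C` in the stabiliser of the special point. -/
theorem run_fixed {l : List Nat} {Ts : List (List Nat)} (C : Set H)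
    (hC : ∀ u ∈ C, ∀ z, N.run l (u⁻¹ • z) = u⁻¹ • N.run l z)
    (hT : ∀ u : H, N.M.act u N.special = N.special →
      ∃ i < Ts.length, (N.M.val (Ts.getD i []))⁻¹ * u ∈ C)
    (h : ∀ k : Fin A.orbs.length, ∀ a < (A.orb k).roots.length, ∀ i < Ts.length,
      N.run l (N.pnt k (N.M.val ((A.root k a).r ++ Ts.getD i []))) =
        N.pnt k (N.M.val ((A.root k a).r ++ Ts.getD i []))) :
    ∀ z, N.run l z = z := by
  intro z
  obtain ⟨k, g, rfl⟩ := N.pnt_surj z
  obtain ⟨ha, -, hs, hc⟩ := N.move_spec k (N.cpt g)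
  obtain ⟨-, hr, -⟩ := N.root_spec k ha
  rw [N.wpt_eq ((N.orb_spec k.2).2.1 _ ha).1] at hr
  have h1 : N.cpt (N.M.val (A.move k (N.cpt g)) * g) =
      N.cpt (N.M.val (A.root k (A.clsOf k (N.cpt g))).r) := by
    refine Fin.ext (Eq.trans ?_ hr.symm)
    rw [← hc, cpt, mul_inv_rev, N.M.act_mul]
    rfl
  generalize N.M.val (A.move k (N.cpt g)) = s at hs h1
  have hu : N.M.act ((N.M.val (A.root k (A.clsOf k (N.cpt g))).r)⁻¹ * (s * g)) N.special =
      N.special := by
    rw [N.M.act_mul]
    show N.M.act (s * g) (N.cpt _) = _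
    rw [← h1, cpt, ← N.M.act_mul, inv_mul_cancel, N.M.act_one]
    rfl
  obtain ⟨i, hi, hu'⟩ := hT _ hu
  have he : N.pnt k g =
      ((N.M.val (Ts.getD i []))⁻¹ * ((N.M.val (A.root k (A.clsOf k (N.cpt g))).r)⁻¹ * (s * g)))⁻¹ •
        N.pnt k (N.M.val ((A.root k (A.clsOf k (N.cpt g))).r ++ Ts.getD i [])) := by
    rw [N.smul_pnt, N.pnt_eq_iff, inv_inv, N.M.val_append]
    have : g * (s * g)⁻¹ ∈ N.stab k := by
      simpa [mul_inv_rev] using inv_mem hs
    convert this using 1
    group
  rw [he, hC _ hu', h k _ ha i hi]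

theorem fix_inv {u : H} (hu : N.M.act u N.special = N.special) :
    N.M.act u⁻¹ N.special = N.special := by
  conv_lhs => rw [← hu]
  rw [← N.M.act_mul, mul_inv_cancel, N.M.act_one]

theorem step_T (z : N.Omega) {x : Nat} (h : ¬x < A.P.g) : N.step z x = N.tau z := if_neg h

/-- steps commute with an element fixing the special point and commuting with their letters -/
theorem run_smul {u : H} (hu : N.M.act u N.special = N.special) :
    ∀ l : List Nat, (∀ x ∈ l, x < A.P.g → u * N.M.val [x] = N.M.val [x] * u) →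
      ∀ z, N.run l (u⁻¹ • z) = u⁻¹ • N.run l z := by
  intro l
  induction l with
  | nil => intro _ z; rfl
  | cons x l ih =>
    intro hl z
    obtain ⟨hx, hl⟩ := List.forall_mem_cons.1 hl
    rw [N.run_cons, N.run_cons, ← ih hl]
    congr 1
    by_cases h : x < A.P.g
    · rw [step, step, if_pos h, if_pos h, ← mul_smul, ← mul_smul, ← mul_inv_rev, ← mul_inv_rev,
        hx h]
    · rw [N.step_T _ h, N.step_T _ h]
      exact N.tau_smul (N.fix_inv hu) z

/-- the steps `a T b T T` with `b` inverse to `a` commute with a normalised element -/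
theorem run_smul_conj {u : H} {a b T : Nat} (ha : a < A.P.g) (hb : b < A.P.g) (hT : ¬T < A.P.g)
    (hab : N.M.val [a] = (N.M.val [b])⁻¹) (hu : N.M.act u N.special = N.special)
    (hc : N.M.act (N.M.val [b] * u⁻¹ * (N.M.val [b])⁻¹) N.special = N.special) (z : N.Omega) :
    N.run [a, T, b, T, T] (u⁻¹ • z) = u⁻¹ • N.run [a, T, b, T, T] z := by
  have hs : ∀ (x : Nat), x < A.P.g → ∀ w : N.Omega, N.step w x = (N.M.val [x])⁻¹ • w :=
    fun x hx w => if_pos hx
  simp only [N.run_cons, N.run_nil, hs a ha, hs b hb, N.step_T _ hT, hab, inv_inv]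
  rw [← mul_smul, show N.M.val [b] * u⁻¹ =
      (N.M.val [b] * u⁻¹ * (N.M.val [b])⁻¹) * N.M.val [b] by group,
    mul_smul, N.tau_smul hc, ← mul_smul,
    show (N.M.val [b])⁻¹ * (N.M.val [b] * u⁻¹ * (N.M.val [b])⁻¹) = u⁻¹ * (N.M.val [b])⁻¹ by group,
    mul_smul, N.tau_smul (N.fix_inv hu), N.tau_smul (N.fix_inv hu)]

theorem cover_of_ok {gens : List (List Nat)} {z base : List Nat} {Ts : List (List Nat)}
    {nx : BTree}
    (inj : ∀ h : H, (∀ i : Fin A.P.n, (i : Nat) ∈ base → N.M.act h i = i) → h = 1)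
    (h : A.okCover gens z base Ts nx = true) :
    ∀ u ∈ N.M.sub gens, ∃ i < Ts.length,
      (N.M.val (Ts.getD i []))⁻¹ * u ∈
        {c : H | N.M.act c N.special = N.special ∧ c * N.M.val z = N.M.val z * c} := by
  have := N.fin
  simp only [Act.okCover, Bool.and_eq_true, Nat.blt_eq, List.all_eq_true, beq_iff_eq] at h
  obtain ⟨⟨⟨⟨⟨h0, h0'⟩, hT⟩, hz⟩, hg⟩, hc⟩ := h
  let C : Set H := {c : H | N.M.act c N.special = N.special ∧ c * N.M.val z = N.M.val z * c}
  have hmul : ∀ a ∈ C, ∀ b ∈ C, a * b ∈ C := fun a ha b hb =>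
    ⟨by rw [N.M.act_mul, ha.1, hb.1], by rw [mul_assoc, hb.2, ← mul_assoc, ha.2, mul_assoc]⟩
  let S : Set H := {x | ∃ i < Ts.length, (N.M.val (Ts.getD i []))⁻¹ * x ∈ C}
  have stp : ∀ x ∈ S, ∀ q < gens.length, N.M.val (gens.getD q []) * x ∈ S := by
    rintro x ⟨i, hi, hx⟩ q hq
    have e := allBelow_spec (allBelow_spec hc i hi) q hq
    simp only [Bool.and_eq_true, Nat.blt_eq, Nat.beq_eq, List.all_eq_true] at e
    obtain ⟨⟨ht, he1⟩, he2⟩ := e
    generalize nx.word (Nat.add (Nat.mul i gens.length) q) = t at ht he1 he2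
    have hlt : ∀ {L : List (List Nat)} {j : Nat}, (∀ w ∈ L, A.okW w = true) → j < L.length →
        ∀ y ∈ L.getD j [], y < A.P.g := by
      intro L j hL hj
      rw [List.getD_eq_getElem?_getD, List.getElem?_eq_getElem hj]
      exact ActBase.okW_lt (hL _ (List.getElem_mem hj))
    have hd : ∀ y ∈ ivw (Ts.getD t []) ++ (gens.getD q [] ++ Ts.getD i []), y < A.P.g := by
      simp only [List.mem_append]
      rintro y (hy | hy | hy)
      · exact N.M.ivw_lt (hlt hT ht) y hy
      · exact hlt hg hq y hy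
      · exact hlt hT hi y hy
    have hd2 : N.M.val (ivw (Ts.getD t []) ++ (gens.getD q [] ++ Ts.getD i [])) ∈ C := by
      generalize ivw (Ts.getD t []) ++ (gens.getD q [] ++ Ts.getD i []) = d at hd he1 he2
      refine ⟨Fin.ext ((N.M.fapp_act N.flat d hd N.special).symm.trans he1), ?_⟩
      rw [← mul_inv_eq_one]
      refine inj _ fun j hj => ?_
      have e1 : fapp A.ft (d ++ z) j = fapp A.ft (z ++ d) j := he2 j hj
      rw [N.M.fapp_act N.flat _ (by simpa using fun y hy => hy.elim (hd y) (ActBase.okW_lt hz y)),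
        N.M.fapp_act N.flat _ (by simpa using fun y hy => hy.elim (ActBase.okW_lt hz y) (hd y)),
        N.M.val_append, N.M.val_append] at e1
      rw [N.M.act_mul, Fin.ext e1, ← N.M.act_mul, mul_inv_cancel, N.M.act_one]
    refine ⟨t, ht, ?_⟩
    have e := hmul _ hd2 _ hx
    rw [N.M.val_append, N.M.val_append, N.M.val_ivw] at e
    convert e using 1
    group
  intro u hu
  let S' : Submonoid H :=
    { carrier := {g | ∀ x ∈ S, g * x ∈ S}
      one_mem' := fun x hx => by rwa [one_mul]
      mul_mem' := fun {a b} ha hb x hx => by rw [mul_assoc]; exact ha _ (hb x hx) }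
  have hle : Submonoid.closure {g | ∃ w ∈ gens, N.M.val w = g} ≤ S' := by
    refine Submonoid.closure_le.2 ?_
    rintro g ⟨w, hw, rfl⟩ x hx
    obtain ⟨q, hq, rfl⟩ := List.getElem_of_mem hw
    simpa [List.getD_eq_getElem?_getD, List.getElem?_eq_getElem hq] using stp x hx q hq
  rw [Perms.sub, ← Subgroup.mem_toSubmonoid, Subgroup.closure_toSubmonoid_of_finite] at hu
  have h1 : (1 : H) ∈ S :=
    ⟨0, h0, by
      rw [h0', show N.M.val [] = 1 by simp [Perms.val, wv]]
      exact ⟨by simp [N.M.act_one], by simp⟩⟩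
  have hfin := hle hu 1 h1
  rw [mul_one] at hfin
  exact hfin

end ActModel

end

end CfsgLib.DCE
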