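import Cfsg.Agent.Lib.DCE.Action

/-!
Generators of the stabilisers of the roots, from the lengths of short orbits alone: the classes of
an orbit have at most `N / order` points each and `n` points together.
-/

namespace CfsgLib.DCE

open CfsgLib.PresCert

namespace Act

variable (A : Act)

/-- the order shown by the levels of a root -/
noncomputable def rootOrder (k a : Nat) : Nat :=
  ((A.root k a).levels.map fun O => O.orb.length).prod

/-- the levels of the roots of an orbit of order `N`, and the sizes of the classes -/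
noncomputable def okStab (k N : Nat) : Bool :=
  let R := (A.orb k).roots.length
  (allBelow R fun a =>
    let T := A.root k a
    SOrbit.okChain A.ft A.P.n A.P.g [] T.levels &&
      (T.levels.all fun O => O.gens.all fun w =>
        T.stab.contains w || T.stab.contains (ivw w)) &&
      Nat.beq (Nat.mul (N / A.rootOrder k a) (A.rootOrder k a)) N) &&
    Nat.beq (((List.range R).map fun a => N / A.rootOrder k a).sum) A.P.n

end Act

namespace ActBase

variable {A : Act} {H : Type*} [Group H] (B : ActBase A H)

/-- The root stabilisers are generated by the given words. -/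
theorem stab_gen_of {k : Nat} (hk : k < A.orbs.length) {N : Nat}
    (hN : Nat.card (B.M.sub (A.orb k).gens) ≤ N) (h : A.okStab k N = true) :
    ∀ a < (A.orb k).roots.length, ∀ x ∈ B.M.sub (A.orb k).gens,
      (∀ i : Fin A.P.n, (i : Nat) = (A.root k a).c → B.M.act x i = i) →
        x ∈ B.M.sub (A.root k a).stab := by
  classical
  have := B.fin
  let k' : Fin A.orbs.length := ⟨k, hk⟩
  simp only [Act.okStab, Bool.and_eq_true, Nat.beq_eq] at h
  obtain ⟨hall, hsum⟩ := h
  let S := B.M.sub (A.orb k).gens
  let F : Nat → Subgroup H := fun a => B.M.fixIn S [(A.root k a).c]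
  let C : Nat → Finset (Fin A.P.n) := fun a => Finset.univ.filter fun c => A.clsOf k c = a
  -- the stabiliser words
  have hle : ∀ a < (A.orb k).roots.length, B.M.sub (A.root k a).stab ≤ F a := by
    intro a ha
    rw [Perms.sub, Subgroup.closure_le]
    rintro _ ⟨w, hw, rfl⟩
    obtain ⟨e1, e2, -⟩ := (B.root_spec k' ha).2.2.2 w hw
    refine ⟨e2, fun i hi => Fin.ext ?_⟩
    rw [List.mem_singleton] at hi
    rw [← B.M.fapp_act B.flat w (((B.orb_spec hk).2.1 a ha).2.2.2 w hw), hi]
    exact e1
  have hord : ∀ a < (A.orb k).roots.length,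
      A.rootOrder k a ≤ Nat.card (B.M.sub (A.root k a).stab) := by
    intro a ha
    have e := allBelow_spec hall a ha
    simp only [Bool.and_eq_true, List.all_eq_true, Bool.or_eq_true, List.contains_iff_mem] at e
    obtain ⟨⟨e1, e2⟩, -⟩ := e
    refine (SOrbit.chain_le B.M B.flat (B.M.sub (A.root k a).stab) _ [] e1 fun O hO w hw => ?_).trans
      (Subgroup.card_le_of_le fun x hx => hx.1)
    rcases e2 O hO w hw with m | m
    · exact Subgroup.subset_closure ⟨w, m, rfl⟩
    · have hm : B.M.val (ivw w) ∈ B.M.sub (A.root k a).stab :=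
        Subgroup.subset_closure ⟨_, m, rfl⟩
      rw [B.M.val_ivw] at hm
      simpa using inv_mem hm
  have horb : ∀ a < (A.orb k).roots.length, (C a).card * Nat.card (F a) ≤ Nat.card S := by
    intro a ha
    let φ : {c // c ∈ C a} × F a → S := fun q =>
      ⟨(q.2 : H) * B.M.val (A.move k q.1.1), mul_mem q.2.2.1 (B.move_spec k' q.1.1).2.2.1⟩
    have hc : ∀ c : {c // c ∈ C a},
        (B.M.act (B.M.val (A.move k c.1))⁻¹ c.1 : Nat) = (A.root k a).c := by
      intro c
      rw [(B.move_spec k' c.1).2.2.2]
      exact congrArg (fun a => (A.root k a).c) (Finset.mem_filter.1 c.2).2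
    have hφ : Function.Injective φ := by
      rintro ⟨c, u⟩ ⟨c', u'⟩ e
      have e' : (u : H) * B.M.val (A.move k c.1) = (u' : H) * B.M.val (A.move k c'.1) :=
        congrArg Subtype.val e
      let b : Fin A.P.n := B.M.act (B.M.val (A.move k c.1))⁻¹ c.1
      have hb : (b : Nat) = (A.root k a).c := hc c
      have hb' : B.M.act (B.M.val (A.move k c'.1))⁻¹ c'.1 = b :=
        Fin.ext ((hc c').trans hb.symm)
      have e2 := congrArg (fun g : H => B.M.act g b) e'
      simp only [B.M.act_mul, u.2.2 b (by simp [hb]), u'.2.2 b (by simp [hb])] at e2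
      have l1 : B.M.act (B.M.val (A.move k c.1)) b = c.1 := by
        rw [← B.M.act_mul, inv_mul_cancel, B.M.act_one]
      have l2 : B.M.act (B.M.val (A.move k c'.1)) b = c'.1 := by
        rw [← hb', ← B.M.act_mul, inv_mul_cancel, B.M.act_one]
      rw [l1, l2] at e2
      obtain rfl : c = c' := Subtype.ext e2
      exact Prod.ext rfl (Subtype.ext (mul_right_cancel e'))
    have := Nat.card_le_card_of_injective φ hφ
    rwa [Nat.card_prod, Nat.card_eq_fintype_card (α := {c // c ∈ C a}), Fintype.card_coe] at this
  have hq : ∀ a < (A.orb k).roots.length,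
      N / A.rootOrder k a * A.rootOrder k a = N ∧ (C a).card ≤ N / A.rootOrder k a := by
    intro a ha
    have e := allBelow_spec hall a ha
    simp only [Bool.and_eq_true, Nat.beq_eq] at e
    refine ⟨e.2, Nat.le_of_mul_le_mul_right ?_ (Nat.card_pos (α := F a))⟩
    calc (C a).card * Nat.card (F a) ≤ N := (horb a ha).trans hN
      _ = N / A.rootOrder k a * A.rootOrder k a := e.2.symm
      _ ≤ _ := Nat.mul_le_mul_left _ ((hord a ha).trans (Subgroup.card_le_of_le (hle a ha)))
  have htot : ∑ a ∈ Finset.range (A.orb k).roots.length, (C a).card =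
      ∑ a ∈ Finset.range (A.orb k).roots.length, N / A.rootOrder k a := by
    rw [← Finset.card_eq_sum_card_fiberwise (s := Finset.univ) (f := fun c : Fin A.P.n => A.clsOf k c)
      fun c _ => Finset.mem_range.2 (B.move_spec k' c).1]
    rw [Finset.card_univ, Fintype.card_fin, ← hsum, Finset.sum_eq_multiset_sum, Finset.range_val,
      Multiset.range, Multiset.map_coe, Multiset.sum_coe]
  have heq := (Finset.sum_eq_sum_iff_of_le fun a ha => (hq a (Finset.mem_range.1 ha)).2).1 htot
  intro a ha x hx hfix
  have hpos : 0 < (C a).card := Finset.card_pos.2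
    ⟨⟨(A.root k a).c, (B.root_spec k' ha).1⟩,
      Finset.mem_filter.2 ⟨Finset.mem_univ _, (B.root_spec k' ha).2.2.1⟩⟩
  have h1 : Nat.card (F a) ≤ A.rootOrder k a := by
    refine Nat.le_of_mul_le_mul_left ?_ hpos
    conv_rhs => rw [heq a (Finset.mem_range.2 ha), (hq a ha).1]
    exact (horb a ha).trans hN
  rw [Subgroup.eq_of_le_of_card_ge (hle a ha) (h1.trans (hord a ha))]
  exact ⟨hx, fun i hi => hfix i (List.mem_singleton.1 hi)⟩

end ActBase

end CfsgLib.DCE
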