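import Cfsg.Agent.Lib.DCE.Fast

/-!
Lower bounds from short orbits given as lists.
-/

namespace CfsgLib.DCE

open CfsgLib.PresCert

/-- An orbit of `base` under `gens`: entries `(point, parent, generator)`. -/
structure SOrbit where
  base : Nat
  gens : List (List Nat)
  orb : List (Nat × Nat × Nat)

namespace SOrbit

variable (O : SOrbit)

/-- an entry -/
noncomputable def ent (d : Nat) : Nat × Nat × Nat :=
  O.orb.getD d (nat_lit 0, nat_lit 0, nat_lit 0)

/-- the entries have distinct points -/
noncomputable def okDistinct : List Nat → Bool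
  | [] => true
  | a :: l => (l.all fun b => !Nat.beq a b) && okDistinct l

/-- the orbit is correct and its generators fix the listed points -/
noncomputable def ok (ft : BTree) (n g : Nat) (bs : List Nat) : Bool :=
  Nat.blt 0 O.orb.length && Nat.beq (O.ent (nat_lit 0)).1 O.base && Nat.blt O.base n &&
    okDistinct (O.orb.map fun e => e.1) &&
    (O.gens.all fun w => (w.all fun x => Nat.blt x g) &&
      bs.all fun b => Nat.blt b n && Nat.beq (fapp ft w b) b) &&
    allBelow O.orb.length fun d =>
      Nat.blt (O.ent d).1 n && (Nat.beq d (nat_lit 0) || (Nat.blt (O.ent d).2.1 d &&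
        Nat.blt (O.ent d).2.2 O.gens.length &&
        Nat.beq (fapp ft (O.gens.getD (O.ent d).2.2 []) (O.ent (O.ent d).2.1).1) (O.ent d).1))

theorem okDistinct_nodup : ∀ l : List Nat, okDistinct l = true → l.Nodup
  | [], _ => List.nodup_nil
  | a :: l, h => by
    simp only [okDistinct, Bool.and_eq_true, List.all_eq_true, Bool.not_eq_true'] at h
    exact List.nodup_cons.2
      ⟨fun hm => Nat.ne_of_beq_eq_false (h.1 a hm) rfl, okDistinct_nodup l h.2⟩

variable {P : PermData} {H : Type*} [Group H] (M : Perms P H)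

/-- one orbit -/
theorem card_ge [Finite H] {ft : BTree} (hf : okFlat P ft = true) {bs : List Nat}
    (h : O.ok ft P.n P.g bs = true) (G : Subgroup H) (hG : ∀ w ∈ O.gens, M.val w ∈ G) :
    O.orb.length * Nat.card (M.fixIn G (O.base :: bs)) ≤ Nat.card (M.fixIn G bs) := by
  simp only [ok, Bool.and_eq_true, List.all_eq_true, Nat.blt_eq, Nat.beq_eq] at h
  obtain ⟨⟨⟨⟨⟨-, h0⟩, hbase⟩, hinc⟩, hg⟩, ho⟩ := h
  have hfixG : ∀ w ∈ O.gens, M.val w ∈ M.fixIn G bs := fun w hw =>
    ⟨hG w hw, fun i hi => Fin.ext (by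
      rw [← M.fapp_act hf w (hg w hw).1]; exact ((hg w hw).2 i hi).2)⟩
  let b : Fin P.n := ⟨O.base, hbase⟩
  have key : ∀ d, d < O.orb.length → ∃ σ ∈ M.fixIn G bs, (M.act σ b : Nat) = (O.ent d).1 := by
    intro d
    induction d using Nat.strong_induction_on with
    | _ d ih =>
      intro hd
      have e := allBelow_spec ho d hd
      simp only [Bool.and_eq_true, Bool.or_eq_true, Nat.blt_eq, Nat.beq_eq] at e
      rcases e.2 with rfl | ⟨⟨hpar, hk⟩, himg⟩
      · exact ⟨1, one_mem _, by rw [h0, M.act_one]⟩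
      obtain ⟨σ, hσ, eσ⟩ := ih _ hpar (hpar.trans hd)
      have hmem : O.gens.getD (O.ent d).2.2 [] ∈ O.gens := by
        rw [List.getD_eq_getElem?_getD, List.getElem?_eq_getElem hk]
        exact List.getElem_mem hk
      refine ⟨σ * M.val _, mul_mem hσ (hfixG _ hmem), ?_⟩
      rw [M.act_mul, ← M.fapp_act hf _ (hg _ hmem).1, eσ]
      exact himg
  choose σ hσ eσ using key
  let φ : Fin O.orb.length × M.fixIn G (O.base :: bs) → M.fixIn G bs := fun q =>
    ⟨(q.2 : H) * σ q.1 q.1.2, mul_mem
      ⟨q.2.2.1, fun i hi => q.2.2.2 i (List.mem_cons_of_mem _ hi)⟩ (hσ _ _)⟩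
  have hφ : Function.Injective φ := by
    rintro ⟨p, τ⟩ ⟨p', τ'⟩ e
    have e' : (τ : H) * σ p p.2 = (τ' : H) * σ p' p'.2 := congrArg Subtype.val e
    have hp : (p : Nat) = p' := by
      have e2 := congrArg (fun g : H => ((M.act g b : Fin P.n) : Nat)) e'
      simp only [M.act_mul, τ.2.2 b (List.mem_cons_self ..), τ'.2.2 b (List.mem_cons_self ..),
        eσ] at e2
      refine (okDistinct_nodup _ hinc).getElem_inj_iff (hi := by simp) (hj := by simp) |>.1 ?_
      simpa [SOrbit.ent, List.getD_eq_getElem?_getD, List.getElem?_eq_getElem p.2,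
        List.getElem?_eq_getElem p'.2] using e2
    obtain rfl : p = p' := Fin.ext hp
    exact Prod.ext rfl (Subtype.ext (mul_right_cancel e'))
  have hc := Nat.card_le_card_of_injective φ hφ
  rwa [Nat.card_prod, Nat.card_eq_fintype_card, Fintype.card_fin] at hc

/-- a list of orbits, each fixing the earlier base points -/
noncomputable def okChain (ft : BTree) (n g : Nat) : List Nat → List SOrbit → Bool
  | _, [] => true
  | bs, O :: l => O.ok ft n g bs && okChain ft n g (O.base :: bs) l

/-- the orbits multiply to a lower bound -/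
theorem chain_le [Finite H] {ft : BTree} (hf : okFlat P ft = true) (G : Subgroup H) :
    ∀ (l : List SOrbit) (bs : List Nat), okChain ft P.n P.g bs l = true →
      (∀ O ∈ l, ∀ w ∈ O.gens, M.val w ∈ G) →
      (l.map fun O => O.orb.length).prod ≤ Nat.card (M.fixIn G bs)
  | [], bs, _, _ => by
    show 1 ≤ _
    exact Nat.card_pos
  | O :: l, bs, h, hG => by
    simp only [okChain, Bool.and_eq_true] at h
    have ih := chain_le hf G l _ h.2 fun O' hO' => hG O' (List.mem_cons_of_mem _ hO')
    rw [List.map_cons, List.prod_cons]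
    exact (Nat.mul_le_mul_left _ ih).trans (O.card_ge M hf h.1 G (hG O (List.mem_cons_self ..)))

end SOrbit

end CfsgLib.DCE
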