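import Cfsg.Agent.Lib.DCE.Tuple
import Cfsg.Agent.Lib.DCE.Orbits

/-!
The action defined by a closed enumeration with one edge element `T` centralising the stabiliser
`U` of the point `pt`.

Its points are the cosets `(k, S k * h)` of the orbit stabilisers. The classes of an orbit are the
`S k`-orbits on the points of `H`; each has a root, and `T` maps `(k, S k * h)` to
`(j, S j * E * s * h)`, where `s` in `S k` moves the root to the point of `h`, and `E` and `j`
belong to the root.
-/

namespace CfsgLib.DCE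

open CfsgLib.PresCert

/-- A class: the root point `c`, a word `r` whose inverse moves the special point to it, the target
orbit, the element `e`, generators of the stabiliser of the root point, the numbers of the tuples
certifying that they lie in the orbit stabiliser and that their conjugates by `e` lie in the
target stabiliser, and orbits bounding their group from below. -/
structure Root where
  c : Nat
  r : List Nat
  j : Nat
  e : List Nat
  stab : List (List Nat)
  hints : List Nat
  chints : List Nat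
  levels : List SOrbit

/-- An orbit of the action, its generators and the tuples deciding membership. The word of a point
is `arg + 2^12 * kind + 2^16 * parent + 2^32 * depth + 2^48 * class`; kind 1 for a root with `arg`
its number, kind 0 for a child with `arg = 2 * generator + inverse`. -/
structure Orb where
  gens : List (List Nat)
  tup : TOrb
  cls : BTree
  roots : List Root

/-- the data of an action -/
structure Act where
  P : PermData
  ft : BTree
  pt : Nat
  orbs : List Orb

namespace Act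

variable (A : Act)

/-- an orbit -/
noncomputable def orb (k : Nat) : Orb :=
  A.orbs.getD k ⟨[], ⟨nat_lit 0, nat_lit 0, .leaf (nat_lit 0), .leaf (nat_lit 0)⟩, .leaf (nat_lit 0),
    []⟩

/-- a class -/
noncomputable def root (k a : Nat) : Root :=
  (A.orb k).roots.getD a ⟨nat_lit 0, [], nat_lit 0, [], [], [], [], []⟩

/-- argument of a point -/
noncomputable def arg (k c : Nat) : Nat := Nat.land ((A.orb k).cls.word c) (nat_lit 4095)

/-- is a point a root -/
noncomputable def isRoot (k c : Nat) : Bool :=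
  Nat.beq (Nat.land (Nat.shiftRight ((A.orb k).cls.word c) (nat_lit 12)) (nat_lit 1)) (nat_lit 1)

/-- parent of a point -/
noncomputable def par (k c : Nat) : Nat :=
  Nat.land (Nat.shiftRight ((A.orb k).cls.word c) (nat_lit 16)) (nat_lit 65535)

/-- depth of a point -/
noncomputable def depth (k c : Nat) : Nat :=
  Nat.land (Nat.shiftRight ((A.orb k).cls.word c) (nat_lit 32)) (nat_lit 65535)

/-- class of a point -/
noncomputable def clsOf (k c : Nat) : Nat := Nat.shiftRight ((A.orb k).cls.word c) (nat_lit 48)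

/-- a move -/
noncomputable def mv (k a : Nat) : List Nat :=
  bif Nat.beq (Nat.land a (nat_lit 1)) (nat_lit 0) then
    (A.orb k).gens.getD (Nat.shiftRight a (nat_lit 1)) []
  else ivw ((A.orb k).gens.getD (Nat.shiftRight a (nat_lit 1)) [])

/-- the element moving the root to a point -/
noncomputable def chain (k : Nat) : Nat → Nat → List Nat → List Nat
  | 0, _, s => s
  | f + 1, c, s =>
    bif A.isRoot k c then s else chain k f (A.par k c) (A.mv k (A.arg k c) ++ s)

/-- moving element of a point -/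
noncomputable def move (k c : Nat) : List Nat :=
  A.chain k (Nat.add (A.depth k c) (nat_lit 1)) c []

/-- the point of a word -/
noncomputable def wpt (w : List Nat) : Nat := bapp A.ft w A.pt

/-- image under `T`, in words -/
noncomputable def tauW (k : Nat) (w : List Nat) : Nat × List Nat :=
  let c := A.wpt w
  let a := A.clsOf k c
  ((A.root k a).j, (A.root k a).e ++ (A.move k c ++ w))

/-- a word lies in the letters -/
noncomputable def okW (w : List Nat) : Bool := w.all fun x => Nat.blt x A.P.g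

/-- the tree of an orbit is correct at a point -/
noncomputable def okPoint (k c : Nat) : Bool :=
  let O := A.orb k
  let a := A.arg k c
  let cl := A.clsOf k c
  let d := A.par k c
  Nat.blt cl O.roots.length &&
  (bif A.isRoot k c then Nat.beq a cl && Nat.beq (A.root k a).c c
  else
    Nat.blt (Nat.shiftRight a (nat_lit 1)) O.gens.length && Nat.blt d A.P.n &&
      Nat.beq (bapp A.ft (A.mv k a) c) d && Nat.beq (A.clsOf k d) cl &&
      Nat.blt (A.depth k d) (A.depth k c)) &&
  O.gens.all fun g => Nat.beq (A.clsOf k (bapp A.ft g c)) cl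

/-- the points in a range -/
noncomputable def okPoints (k lo len : Nat) : Bool :=
  allBelow len fun j => A.okPoint k (Nat.add lo j)

/-- the words of an orbit -/
noncomputable def okOrb (k : Nat) : Bool :=
  let O := A.orb k
  (O.gens.all fun w => A.okW w) &&
    (O.roots.all fun R => A.okW R.r && A.okW R.e && Nat.blt R.j A.orbs.length &&
      (R.stab.all fun w => A.okW w)) &&
    TOrb.okClosedT A.ft A.P.n O.tup O.gens

/-- the root and its stabiliser -/
noncomputable def okRoot (k a : Nat) : Bool :=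
  let R := A.root k a
  Nat.blt R.c A.P.n && Nat.beq (A.wpt R.r) R.c && Nat.beq (A.clsOf k R.c) a &&
    allBelow R.stab.length fun i =>
      let s := R.stab.getD i []
      Nat.beq (fapp A.ft s R.c) R.c &&
        TOrb.okIn A.ft (A.orb k).tup [] s (R.hints.getD i (nat_lit 0)) &&
        TOrb.okIn A.ft (A.orb R.j).tup [] (R.e ++ (s ++ ivw R.e)) (R.chints.getD i (nat_lit 0))

/-- the roots of an orbit in a range -/
noncomputable def okRoots (k lo len : Nat) : Bool :=
  allBelow len fun j => A.okRoot k (Nat.add lo j)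

end Act

/-- The meaning of the data in `H`. -/
structure ActBase (A : Act) (H : Type*) [Group H] where
  M : Perms A.P H
  fin : Finite H
  pt_lt : A.pt < A.P.n
  flat : okFlat A.P A.ft = true
  orb_ok : ∀ k < A.orbs.length, A.okOrb k = true
  point_ok : ∀ k < A.orbs.length, ∀ c < A.P.n, A.okPoint k c = true
  root_ok : ∀ k < A.orbs.length, ∀ a < (A.orb k).roots.length, A.okRoot k a = true
  tup_card : ∀ k < A.orbs.length, (A.orb k).tup.b * Nat.card (M.fixIn ⊤ (A.orb k).tup.refs) ≤
    Nat.card (M.sub (A.orb k).gens)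

/-- The data with the generation of the root stabilisers, which makes the action well defined. -/
structure ActModel (A : Act) (H : Type*) [Group H] extends ActBase A H where
  stab_gen : ∀ k < A.orbs.length, ∀ a < (A.orb k).roots.length, ∀ h ∈ M.sub (A.orb k).gens,
    (∀ i : Fin A.P.n, (i : Nat) = (A.root k a).c → M.act h i = i) →
      h ∈ M.sub (A.root k a).stab

noncomputable section

namespace ActBase

variable {A : Act} {H : Type*} [Group H] (B : ActBase A H)

/-- the stabiliser of an orbit -/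
def stab (k : Fin A.orbs.length) : Subgroup H := B.M.sub (A.orb k).gens

theorem okW_lt {w : List Nat} (h : A.okW w = true) : ∀ x ∈ w, x < A.P.g := by
  simpa [Act.okW] using h

include B in
theorem orb_spec {k : Nat} (hk : k < A.orbs.length) :
    (∀ w ∈ (A.orb k).gens, ∀ x ∈ w, x < A.P.g) ∧
    (∀ a < (A.orb k).roots.length, (∀ x ∈ (A.root k a).r, x < A.P.g) ∧
      (∀ x ∈ (A.root k a).e, x < A.P.g) ∧ (A.root k a).j < A.orbs.length ∧
      ∀ w ∈ (A.root k a).stab, ∀ x ∈ w, x < A.P.g) ∧
    TOrb.okClosedT A.ft A.P.n (A.orb k).tup (A.orb k).gens = true := by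
  have := B.orb_ok k hk
  simp only [Act.okOrb, Bool.and_eq_true, List.all_eq_true, Nat.blt_eq] at this
  obtain ⟨⟨h1, h3⟩, h4⟩ := this
  refine ⟨fun w hw => okW_lt (h1 w hw), fun a ha => ?_, h4⟩
  have hR : A.root k a ∈ (A.orb k).roots := by
    rw [Act.root, List.getD_eq_getElem?_getD, List.getElem?_eq_getElem ha]
    exact List.getElem_mem ha
  obtain ⟨⟨⟨a', b⟩, c'⟩, d⟩ := h3 _ hR
  exact ⟨okW_lt a', okW_lt b, c', fun w hw => okW_lt (d w hw)⟩

/-- membership from tuples -/
theorem okIn_mem (k : Fin A.orbs.length) {u v : List Nat} (hu : ∀ x ∈ u, x < A.P.g)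
    (hv : ∀ x ∈ v, x < A.P.g) {hint : Nat} (h : TOrb.okIn A.ft (A.orb k).tup u v hint = true) :
    (B.M.val u)⁻¹ * B.M.val v ∈ B.stab k := by
  have := B.fin
  exact TOrb.inX_mem B.M (A.orb k).tup B.flat (B.orb_spec k.2).1 (B.orb_spec k.2).2.2
    (B.tup_card k k.2) (TOrb.okIn_inX B.M _ B.flat hu hv h)

theorem mv_spec (k : Fin A.orbs.length) {a : Nat}
    (ha : Nat.shiftRight a 1 < (A.orb k).gens.length) :
    (∀ x ∈ A.mv k a, x < A.P.g) ∧ B.M.val (A.mv k a) ∈ B.stab k := by
  have hmem : (A.orb k).gens.getD (Nat.shiftRight a (nat_lit 1)) [] ∈ (A.orb k).gens := by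
    rw [List.getD_eq_getElem?_getD, List.getElem?_eq_getElem ha]
    exact List.getElem_mem ha
  have h1 := (B.orb_spec k.2).1 _ hmem
  have h2 : B.M.val ((A.orb k).gens.getD (Nat.shiftRight a (nat_lit 1)) []) ∈ B.stab k :=
    Subgroup.subset_closure ⟨_, hmem, rfl⟩
  unfold Act.mv
  cases Nat.beq (Nat.land a (nat_lit 1)) (nat_lit 0) with
  | true => exact ⟨h1, h2⟩
  | false => exact ⟨B.M.ivw_lt h1, by rw [cond_false, B.M.val_ivw]; exact inv_mem h2⟩

theorem chain_spec (k : Fin A.orbs.length) : ∀ (f : Nat) (c : Fin A.P.n) (s : List Nat),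
    A.depth k c < f →
      ∃ t : List Nat, A.chain k f c s = t ++ s ∧ (∀ x ∈ t, x < A.P.g) ∧ B.M.val t ∈ B.stab k ∧
        (B.M.act (B.M.val t)⁻¹ c : Nat) = (A.root k (A.clsOf k c)).c := by
  intro f
  induction f with
  | zero => intro c s h; omega
  | succ f ih =>
    intro c s hf
    have hp := B.point_ok k k.2 c c.2
    simp only [Act.okPoint, Bool.and_eq_true] at hp
    obtain ⟨⟨-, hp⟩, -⟩ := hp
    simp only [Act.chain]
    cases hk : A.isRoot k c with
    | false =>
      simp only [hk, cond_false, Bool.and_eq_true, Nat.blt_eq, Nat.beq_eq] at hp ⊢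
      obtain ⟨⟨⟨⟨ha, hd⟩, himg⟩, hcl⟩, hpos⟩ := hp
      obtain ⟨hp', hmem⟩ := B.mv_spec k ha
      obtain ⟨t, e1, e2, e3, e4⟩ := ih ⟨_, hd⟩ (A.mv k (A.arg k c) ++ s)
        (lt_of_lt_of_le hpos (Nat.lt_succ_iff.1 hf))
      refine ⟨t ++ A.mv k (A.arg k c), by rw [e1, List.append_assoc], ?_, ?_, ?_⟩
      · simp only [List.mem_append]
        rintro x (hx | hx)
        · exact e2 x hx
        · exact hp' x hx
      · rw [B.M.val_append]
        exact mul_mem e3 hmem
      · rw [B.M.val_append, mul_inv_rev, B.M.act_mul, ← hcl, ← e4]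
        congr 3
        exact Fin.ext (by rw [← B.M.bapp_act B.flat _ hp']; exact himg)
    | true =>
      simp only [hk, cond_true, Bool.and_eq_true, Nat.beq_eq] at hp ⊢
      refine ⟨[], rfl, by simp, by simpa [Perms.val, wv] using one_mem _, ?_⟩
      rw [← hp.1, hp.2]
      simp [Perms.val, wv, B.M.act_one]

/-- class and moving element -/
theorem move_spec (k : Fin A.orbs.length) (c : Fin A.P.n) :
    A.clsOf k c < (A.orb k).roots.length ∧ (∀ x ∈ A.move k c, x < A.P.g) ∧
      B.M.val (A.move k c) ∈ B.stab k ∧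
      (B.M.act (B.M.val (A.move k c))⁻¹ c : Nat) = (A.root k (A.clsOf k c)).c := by
  have hp := B.point_ok k k.2 c c.2
  simp only [Act.okPoint, Bool.and_eq_true, Nat.blt_eq] at hp
  obtain ⟨t, e1, e2, e3, e4⟩ :=
    B.chain_spec k (Nat.add (A.depth k c) (nat_lit 1)) c [] (Nat.lt_succ_self _)
  rw [List.append_nil] at e1
  refine ⟨hp.1.1, ?_⟩
  unfold Act.move
  rw [e1]
  exact ⟨e2, e3, e4⟩

theorem class_inv (k : Fin A.orbs.length) {s : H} (hs : s ∈ B.stab k) :
    ∀ c : Fin A.P.n, A.clsOf k (B.M.act s⁻¹ c) = A.clsOf k c := by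
  induction hs using Subgroup.closure_induction with
  | mem s hs =>
    obtain ⟨w, hw, rfl⟩ := hs
    intro c
    have hp := B.point_ok k k.2 c c.2
    simp only [Act.okPoint, Bool.and_eq_true, List.all_eq_true, Nat.beq_eq] at hp
    have := hp.2 w hw
    rwa [B.M.bapp_act B.flat w ((B.orb_spec k.2).1 w hw)] at this
  | one => intro c; rw [inv_one, B.M.act_one]
  | mul a b _ _ iha ihb =>
    intro c
    rw [mul_inv_rev, B.M.act_mul, iha, ihb]
  | inv a _ iha =>
    intro c
    rw [inv_inv, ← iha (B.M.act a c), ← B.M.act_mul, mul_inv_cancel, B.M.act_one]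

theorem root_spec (k : Fin A.orbs.length) {a : Nat} (ha : a < (A.orb k).roots.length) :
    (A.root k a).c < A.P.n ∧ A.wpt (A.root k a).r = (A.root k a).c ∧
      A.clsOf k (A.root k a).c = a ∧
      ∀ s ∈ (A.root k a).stab, fapp A.ft s (A.root k a).c = (A.root k a).c ∧
        B.M.val s ∈ B.stab k ∧
        ∀ hj : (A.root k a).j < A.orbs.length,
          B.M.val (A.root k a).e * B.M.val s * (B.M.val (A.root k a).e)⁻¹ ∈
            B.stab ⟨(A.root k a).j, hj⟩ := by
  have h := B.root_ok k k.2 a ha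
  simp only [Act.okRoot, Bool.and_eq_true, Nat.blt_eq, Nat.beq_eq] at h
  obtain ⟨⟨⟨h1, h2⟩, h3⟩, h4⟩ := h
  refine ⟨h1, h2, h3, fun s hs => ?_⟩
  obtain ⟨i, hi, rfl⟩ := List.getElem_of_mem hs
  have e := allBelow_spec h4 i hi
  simp only [Bool.and_eq_true, Nat.beq_eq, List.getD_eq_getElem?_getD,
    List.getElem?_eq_getElem hi, Option.getD_some] at e
  obtain ⟨⟨e1, e2⟩, e3⟩ := e
  obtain ⟨-, he, -, hst⟩ := (B.orb_spec k.2).2.1 a ha
  have hsl := hst _ (List.getElem_mem hi)
  refine ⟨e1, ?_, fun hj => ?_⟩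
  · simpa [Perms.val, wv] using B.okIn_mem k (u := []) (by simp) hsl e2
  · have hl : ∀ x ∈ (A.root k a).e ++ ((A.root k a).stab[i] ++ ivw (A.root k a).e),
        x < A.P.g := by
      simp only [List.mem_append]
      rintro x (hx | hx | hx)
      · exact he x hx
      · exact hsl x hx
      · exact B.M.ivw_lt he x hx
    have := B.okIn_mem ⟨_, hj⟩ (u := []) (by simp) hl e3
    rw [B.M.val_append, B.M.val_append, B.M.val_ivw,
      show B.M.val [] = 1 by simp [Perms.val, wv]] at this
    simpa [mul_assoc] using this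

end ActBase

namespace ActModel

variable {A : Act} {H : Type*} [Group H] (N : ActModel A H)

/-- the points of the action -/
def Omega : Type _ := Σ k : Fin A.orbs.length, H ⧸ N.stab k

instance : MulAction H N.Omega where
  smul g z := ⟨z.1, g • z.2⟩
  one_smul z := Sigma.ext rfl (heq_of_eq (one_smul H z.2))
  mul_smul a b z := Sigma.ext rfl (heq_of_eq (mul_smul a b z.2))

/-- the coset of `h` in an orbit -/
def pnt (k : Fin A.orbs.length) (h : H) : N.Omega := ⟨k, ((h⁻¹ : H) : H ⧸ N.stab k)⟩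

theorem pnt_eq_iff {k : Fin A.orbs.length} {g h : H} :
    N.pnt k g = N.pnt k h ↔ g * h⁻¹ ∈ N.stab k := by
  constructor
  · intro e
    have := eq_of_heq (Sigma.mk.inj_iff.1 e).2
    rw [QuotientGroup.eq] at this
    simpa using this
  · intro e
    exact Sigma.ext rfl (heq_of_eq (QuotientGroup.eq.2 (by simpa using e)))

theorem smul_pnt (g : H) (k : Fin A.orbs.length) (h : H) :
    g • N.pnt k h = N.pnt k (h * g⁻¹) := by
  refine Sigma.ext rfl (heq_of_eq ?_)
  show ((g * h⁻¹ : H) : H ⧸ N.stab k) = (((h * g⁻¹)⁻¹ : H) : H ⧸ N.stab k)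
  rw [mul_inv_rev, inv_inv]

theorem pnt_surj (z : N.Omega) : ∃ k h, N.pnt k h = z := by
  obtain ⟨k, q⟩ := z
  obtain ⟨g, rfl⟩ := QuotientGroup.mk_surjective q
  exact ⟨k, g⁻¹, by rw [pnt, inv_inv]⟩

/-- the special point moved by an element -/
def cpt (h : H) : Fin A.P.n := N.M.act h⁻¹ ⟨A.pt, N.pt_lt⟩

theorem wpt_eq {w : List Nat} (hw : ∀ x ∈ w, x < A.P.g) : A.wpt w = (N.cpt (N.M.val w) : Nat) :=
  N.M.bapp_act N.flat w hw ⟨A.pt, N.pt_lt⟩

theorem conj_mem (k : Fin A.orbs.length) {a : Nat} (ha : a < (A.orb k).roots.length) {d : H}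
    (hd : d ∈ N.M.sub (A.root k a).stab) (hj : (A.root k a).j < A.orbs.length) :
    N.M.val (A.root k a).e * d * (N.M.val (A.root k a).e)⁻¹ ∈ N.stab ⟨_, hj⟩ := by
  induction hd using Subgroup.closure_induction with
  | mem d hd =>
    obtain ⟨w, hw, rfl⟩ := hd
    exact ((N.root_spec k ha).2.2.2 w hw).2.2 hj
  | one => simp
  | mul x y _ _ iha ihb =>
    rw [show N.M.val (A.root k a).e * (x * y) * (N.M.val (A.root k a).e)⁻¹ =
      (N.M.val (A.root k a).e * x * (N.M.val (A.root k a).e)⁻¹) *
      (N.M.val (A.root k a).e * y * (N.M.val (A.root k a).e)⁻¹) by group]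
    exact mul_mem iha ihb
  | inv x _ iha =>
    rw [show N.M.val (A.root k a).e * x⁻¹ * (N.M.val (A.root k a).e)⁻¹ =
      (N.M.val (A.root k a).e * x * (N.M.val (A.root k a).e)⁻¹)⁻¹ by group]
    exact inv_mem iha

include N in
theorem root_j (k : Fin A.orbs.length) (c : Fin A.P.n) :
    (A.root k (A.clsOf k c)).j < A.orbs.length :=
  ((N.orb_spec k.2).2.1 _ (N.move_spec k c).1).2.2.1

/-- image under `T` of the coset of an element -/
noncomputable def tauPnt (k : Fin A.orbs.length) (h : H) : N.Omega :=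
  N.pnt ⟨(A.root k (A.clsOf k (N.cpt h))).j, N.root_j k (N.cpt h)⟩
    (N.M.val (A.root k (A.clsOf k (N.cpt h))).e * (N.M.val (A.move k (N.cpt h)) * h))

theorem pnt_congr {k k' : Fin A.orbs.length} (hk : k = k') {g h : H}
    (e : g * h⁻¹ ∈ N.stab k) : N.pnt k g = N.pnt k' h := by
  subst hk; exact (N.pnt_eq_iff).2 e

theorem tauPnt_congr (k : Fin A.orbs.length) {g h : H} (e : g * h⁻¹ ∈ N.stab k) :
    N.tauPnt k g = N.tauPnt k h := by
  obtain ⟨hg1, hg2, hg3, hg4⟩ := N.move_spec k (N.cpt g)
  obtain ⟨hh1, hh2, hh3, hh4⟩ := N.move_spec k (N.cpt h)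
  have hc : N.cpt g = N.M.act (g * h⁻¹)⁻¹ (N.cpt h) := by
    rw [cpt, cpt, ← N.M.act_mul]; congr 1; group
  have hcl : A.clsOf k (N.cpt g) = A.clsOf k (N.cpt h) := by
    rw [hc]; exact N.class_inv k e _
  refine N.pnt_congr (Fin.ext (by simp only [hcl])) ?_
  generalize N.M.val (A.move k (N.cpt g)) = sg at hg3 hg4
  generalize N.M.val (A.move k (N.cpt h)) = sh at hh3 hh4
  rw [hcl] at hg4
  have hd : sg * (g * h⁻¹) * sh⁻¹ ∈ N.M.sub (A.root k (A.clsOf k (N.cpt h))).stab := by
    refine N.stab_gen k k.2 _ hh1 _ (mul_mem (mul_mem hg3 e) (inv_mem hh3)) fun i hi => ?_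
    have e1 : N.M.act sg⁻¹ (N.cpt g) = i := Fin.ext (hg4.trans hi.symm)
    have e2 : N.M.act sh⁻¹ (N.cpt h) = i := Fin.ext (hh4.trans hi.symm)
    rw [cpt, ← N.M.act_mul] at e1 e2
    calc N.M.act (sg * (g * h⁻¹) * sh⁻¹) i
        = N.M.act (sg * (g * h⁻¹) * sh⁻¹) (N.M.act (g⁻¹ * sg⁻¹) ⟨A.pt, N.pt_lt⟩) := by rw [e1]
      _ = N.M.act (h⁻¹ * sh⁻¹) ⟨A.pt, N.pt_lt⟩ := by rw [← N.M.act_mul]; congr 1; group
      _ = i := e2
  show _ ∈ N.M.sub (A.orb (A.root k (A.clsOf k (N.cpt g))).j).gens
  rw [hcl]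
  have := N.conj_mem k hh1 hd (N.root_j k (N.cpt h))
  convert this using 1
  · rfl
  · group

/-- the permutation candidate given by `T` -/
noncomputable def tau : N.Omega → N.Omega := fun z =>
  Quotient.liftOn z.2 (fun g => N.tauPnt z.1 g⁻¹) fun g h e => N.tauPnt_congr _ (by
    rw [← Quotient.eq_iff_equiv, Quotient.eq, QuotientGroup.leftRel_apply] at e
    rw [inv_inv]
    exact e)

theorem tau_pnt (k : Fin A.orbs.length) (h : H) : N.tau (N.pnt k h) = N.tauPnt k h := by
  show N.tauPnt k (h⁻¹)⁻¹ = _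
  rw [inv_inv]

/-- `T` commutes with the stabiliser of `pt` -/
theorem tau_smul {u : H} (hu : N.M.act u ⟨A.pt, N.pt_lt⟩ = ⟨A.pt, N.pt_lt⟩) (z : N.Omega) :
    N.tau (u • z) = u • N.tau z := by
  obtain ⟨k, h, rfl⟩ := N.pnt_surj z
  rw [N.smul_pnt, N.tau_pnt, N.tau_pnt]
  have hc : N.cpt (h * u⁻¹) = N.cpt h := by
    rw [cpt, cpt, mul_inv_rev, inv_inv, N.M.act_mul, hu]
  unfold tauPnt
  rw [N.smul_pnt]
  simp only [hc, mul_assoc]

theorem tau_word (k : Fin A.orbs.length) {w : List Nat} (hw : ∀ x ∈ w, x < A.P.g) :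
    ∃ hj : (A.tauW k w).1 < A.orbs.length, (∀ x ∈ (A.tauW k w).2, x < A.P.g) ∧
      N.tau (N.pnt k (N.M.val w)) = N.pnt ⟨(A.tauW k w).1, hj⟩ (N.M.val (A.tauW k w).2) := by
  have hc := N.wpt_eq hw
  obtain ⟨hl1, hl2, -, -⟩ := N.move_spec k (N.cpt (N.M.val w))
  obtain ⟨-, he, hj, -⟩ := (N.orb_spec k.2).2.1 _ hl1
  have e : A.tauW k w = ((A.root k (A.clsOf k (N.cpt (N.M.val w)))).j,
      (A.root k (A.clsOf k (N.cpt (N.M.val w)))).e ++
        (A.move k (N.cpt (N.M.val w)) ++ w)) := by
    simp only [Act.tauW, hc]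
  rw [e]
  refine ⟨hj, ?_, ?_⟩
  · simp only [List.mem_append]
    rintro x (hx | hx | hx)
    · exact he x hx
    · exact hl2 x hx
    · exact hw x hx
  · rw [N.tau_pnt, tauPnt]
    simp only [N.M.val_append]

end ActModel

end

end CfsgLib.DCE
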