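import Cfsg.Agent.Lib.DCE.Grp

/-!
Checker for double coset enumerations.

`G` is generated by the image of a group `H` with a faithful permutation representation on `P.n`
points, and by edge elements `T e`; `T e` satisfies `u * T e = T e * φ u` for the listed generators
`u` of the stabiliser `V e` of the point `pt e`. The double cosets are `H g H`. A fact is
* type 0: `g i * p = q * g i`;
* type 1: `g i * r * T e = p * g j * q`;
* type 2: `g i = p * g j * q`,
where `p`, `q`, `r` are words in `H`. A fact is proved by two runs along a rotated relator through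
earlier facts, the runs being recorded.
-/

namespace CfsgLib.DCE

open CfsgLib.PresCert

/-- An edge element: the point, generators of its stabiliser and their images. -/
structure Edge where
  pt : Nat
  src : List (List Nat)
  img : List (List Nat)

/-- The fixed data of an enumeration. The letters `≥ P.g` are conjugates `cw⁻¹ * T e * cw`. -/
structure Setup where
  P : PermData
  base : List Nat
  edges : List Edge
  lets : List (Nat × List Nat)
  linv : List Nat
  rels : List (List Nat)
  /-- orbit `j + 1` has representative `g i * r * T e` for the entry `(i, e, r)` -/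
  defs : List (Nat × Nat × List Nat)

/-- a step of a run -/
inductive Step where
  | lett : Nat → Step
  | stab : Nat → Bool → Step
  | edge : Nat → List Nat → Step
  | coin : Nat → Step

/-- the justification of a fact -/
inductive Just where
  | base : Just
  | defEdge : Just
  | loop (start : Nat) (k : List Nat) (rel rot lp : Nat) (swap : Bool) (r1 r2 : List Step)
      (gap : List Nat) : Just

/-- a fact -/
structure Fact where
  ty : Nat
  i : Nat
  j : Nat
  e : Nat
  p : List Nat
  q : List Nat
  r : List Nat
  just : Just

/-- a state stands for `v * g i * k` -/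
structure St where
  v : List Nat
  i : Nat
  k : List Nat

namespace Setup

variable (S : Setup)

/-- a word in the letters of `H` -/
noncomputable def okW (w : List Nat) : Bool := w.all fun x => Nat.blt x S.P.g

/-- two words act alike on the base -/
noncomputable def same (u w : List Nat) : Bool :=
  S.base.all fun b => Nat.beq (S.P.app u b) (S.P.app w b)

/-- the edge with a given number -/
noncomputable def edge (e : Nat) : Edge := S.edges.getD e ⟨nat_lit 0, [], []⟩

/-- the word of a product of stabiliser generators -/
noncomputable def srcW (e : Nat) (wu : List Nat) : List Nat :=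
  wu.flatMap fun x => (S.edge e).src.getD x []

/-- the image of a product of stabiliser generators -/
noncomputable def imgW (e : Nat) (wu : List Nat) : List Nat :=
  wu.flatMap fun x => (S.edge e).img.getD x []

/-- edge and conjugating word of a letter -/
noncomputable def letE (l : Nat) : Nat × List Nat := S.lets.getD (l - S.P.g) (nat_lit 0, [])

/-- the fact with a given number -/
noncomputable def fget (fs : List Fact) (f : Nat) : Fact :=
  fs.getD f ⟨nat_lit 3, nat_lit 0, nat_lit 0, nat_lit 0, [], [], [], .base⟩

/-- follow a run, using facts numbered below `n` -/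
noncomputable def run (fs : List Fact) (n : Nat) : List Step → List Nat → St → Option St
  | [], ls, s => if ls = [] then some s else none
  | .lett x :: t, ls, s =>
    match ls with
    | [] => none
    | l :: ls =>
      if x = l ∧ x < S.P.g then run fs n t ls ⟨s.v, s.i, s.k ++ [x]⟩ else none
  | .stab f fwd :: t, ls, s =>
    let F := fget fs f
    if f < n ∧ F.ty = 0 ∧ F.i = s.i then
      if fwd then run fs n t ls ⟨s.v ++ F.q, s.i, ivw F.p ++ s.k⟩
      else run fs n t ls ⟨s.v ++ ivw F.q, s.i, F.p ++ s.k⟩
    else none
  | .edge f wu :: t, ls, s =>
    match ls with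
    | [] => none
    | l :: ls =>
      let F := fget fs f
      let L := S.letE l
      if f < n ∧ F.ty = 1 ∧ F.i = s.i ∧ S.P.g ≤ l ∧ l < S.P.g + S.lets.length ∧ F.e = L.1 ∧
          (wu.all fun x => Nat.blt x (S.edge L.1).src.length) = true ∧
          S.same (s.k ++ ivw L.2) (F.r ++ S.srcW L.1 wu) = true then
        run fs n t ls ⟨s.v ++ F.p, F.j, F.q ++ (S.imgW L.1 wu ++ L.2)⟩
      else none
  | .coin f :: t, ls, s =>
    let F := fget fs f
    if f < n ∧ F.ty = 2 ∧ F.i = s.i then run fs n t ls ⟨s.v ++ F.p, F.j, F.q ++ s.k⟩ else none

/-- the inverse word over all letters -/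
noncomputable def invAll (w : List Nat) : List Nat :=
  w.reverse.map fun x => S.linv.getD x (nat_lit 0)

/-- the words of a fact -/
noncomputable def okShape (F : Fact) : Bool :=
  Nat.ble F.ty (nat_lit 2) && Nat.ble F.i S.defs.length && Nat.ble F.j S.defs.length &&
    Nat.blt F.e S.edges.length && S.okW F.p && S.okW F.q && S.okW F.r

/-- fact number `n` follows from the earlier ones -/
noncomputable def okFact (fs : List Fact) (n : Nat) : Bool :=
  let F := fget fs n
  S.okShape F &&
  match F.just with
  | .base => decide (F.ty = 0 ∧ F.i = 0 ∧ F.p = F.q)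
  | .defEdge =>
    decide (F.ty = 1 ∧ 0 < F.j ∧ F.p = [] ∧ F.q = [] ∧ S.defs[F.j - 1]? = some (F.i, F.e, F.r))
  | .loop start k rel rot lp swap r1 r2 gap =>
    let w0 := S.rels.getD rel []
    let w := w0.drop rot ++ w0.take rot
    let w2 := if F.ty = 1 then w.drop (lp + 1) else w.drop lp
    decide (rel < S.rels.length ∧ start ≤ S.defs.length ∧ S.okW k = true ∧ lp ≤ w.length ∧
      (F.ty = 1 → lp < w.length)) &&
    match S.run fs n r1 (w.take lp) ⟨[], start, k⟩, S.run fs n r2 (S.invAll w2) ⟨[], start, k⟩ with
    | some A0, some B0 =>
      let A := if swap then B0 else A0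
      let B := if swap then A0 else B0
      decide (A.i = F.i) && decide (B.i = F.j) && S.same (ivw A.v ++ B.v) (if F.ty = 0 then F.q else F.p) &&
      match F.ty with
      | 0 => decide (F.i = F.j) && S.same (A.k ++ ivw B.k) F.p
      | 1 =>
        let l0 := w.getD lp (nat_lit 0)
        let l := if swap then S.linv.getD l0 (nat_lit 0) else l0
        let L := S.letE l
        decide (S.P.g ≤ l ∧ l < S.P.g + S.lets.length ∧ L.1 = F.e) &&
          (gap.all fun x => Nat.blt x (S.edge L.1).src.length) &&
          S.same (A.k ++ ivw L.2) (F.r ++ S.srcW L.1 gap) &&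
          S.same (B.k ++ (ivw L.2 ++ ivw (S.imgW L.1 gap))) F.q
      | _ => S.same (B.k ++ ivw A.k) F.q
    | _, _ => false

/-- the facts numbered from `lo` to `lo + len` follow from the earlier ones -/
noncomputable def okRange (fs : List Fact) (lo len : Nat) : Bool :=
  allBelow len fun j => S.okFact fs (Nat.add lo j)

/-- the data are well formed -/
noncomputable def okSetup : Bool :=
  (S.base.all fun b => Nat.blt b S.P.n) &&
    (S.edges.all fun E => Nat.blt E.pt S.P.n && (E.src.all fun w => S.okW w) &&
      (E.img.all fun w => S.okW w) && Nat.beq E.src.length E.img.length) &&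
    (S.lets.all fun L => Nat.blt L.1 S.edges.length && S.okW L.2) &&
    (S.rels.all fun w => w.all fun x => Nat.blt x (S.P.g + S.lets.length)) &&
    allBelow (S.P.g + S.lets.length) (fun x => Nat.blt (S.linv.getD x (nat_lit 0)) (S.P.g + S.lets.length)) &&
    allBelow S.edges.length (fun e => S.lets.any fun L => Nat.beq L.1 e && decide (L.2 = [])) &&
    allBelow S.defs.length (fun j =>
      let d := S.defs.getD j (nat_lit 0, nat_lit 0, [])
      Nat.ble d.1 j && Nat.blt d.2.1 S.edges.length && S.okW d.2.2)

/-- A living orbit: its number, facts of type 0 about it, and, for each edge, the classes of the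
points. A point has the word `0` (outside the orbit of the edge point), or
`1 + 2 * kind + 4 * fact + 2^14 * parent + 2^30 * position`, kind 1 for a root. -/
structure _root_.CfsgLib.DCE.Live where
  i : Nat
  stabs : List Nat
  cls : List BTree

/-- the classes of the points for one edge -/
noncomputable def okClass (fs : List Fact) (i e : Nat) (t : BTree) : Bool :=
  let E := S.edge e
  !(Nat.beq (t.word E.pt) (nat_lit 0)) && allBelow S.P.n fun c =>
    let w := t.word c
    Nat.beq w (nat_lit 0) ||
      ((allBelow S.P.g fun x => !(Nat.beq (t.word (S.P.img x c)) (nat_lit 0))) &&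
        let f := Nat.land (Nat.shiftRight w (nat_lit 2)) (nat_lit 4095)
        let d := Nat.land (Nat.shiftRight w (nat_lit 14)) (nat_lit 65535)
        let F := fget fs f
        Nat.blt f fs.length && Nat.beq F.i i &&
          bif Nat.beq (Nat.land w (nat_lit 2)) (nat_lit 0) then
            Nat.beq F.ty (nat_lit 0) && Nat.beq (S.P.app (ivw F.p) c) d &&
              !(Nat.beq (t.word d) (nat_lit 0)) && Nat.blt d S.P.n &&
              Nat.blt (Nat.shiftRight (t.word d) (nat_lit 30)) (Nat.shiftRight w (nat_lit 30))
          else
            Nat.beq F.ty (nat_lit 1) && Nat.beq F.e e && Nat.beq (S.P.app (ivw F.r) E.pt) c)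

/-- a living orbit is closed -/
noncomputable def okLive (fs : List Fact) (L : Live) : Bool :=
  Nat.ble L.i S.defs.length &&
    (L.stabs.all fun f => Nat.blt f fs.length && Nat.beq (fget fs f).ty (nat_lit 0) &&
      Nat.beq (fget fs f).i L.i) &&
    Nat.beq L.cls.length S.edges.length &&
    allBelow S.edges.length fun e => S.okClass fs L.i e (L.cls.getD e (.leaf (nat_lit 0)))

/-- every orbit lives or falls onto an earlier one -/
noncomputable def okCover (fs : List Fact) (ls : List Live) (dead : List Nat) : Bool :=
  allBelow (S.defs.length + 1) fun j =>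
    (ls.any fun L => Nat.beq L.i j) ||
      (dead.any fun f => Nat.blt f fs.length && Nat.beq (fget fs f).ty (nat_lit 2) &&
        Nat.beq (fget fs f).i j && Nat.blt (fget fs f).j j)

end Setup

end CfsgLib.DCE
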