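import Cfsg.Agent.Lib.DCE.Facts

/-!
A closed enumeration bounds the index of the image of `H`.
-/

namespace CfsgLib.DCE

open CfsgLib.PresCert

variable {S : Setup} {H Q : Type*} [Group H] [Group Q] (N : Model S H Q)

/-- the stabiliser of an orbit given by the facts of a living orbit -/
noncomputable def liveStab (fs : List Fact) (L : Live) : Subgroup H :=
  Subgroup.closure {h | ∃ f ∈ L.stabs, N.M.val (Setup.fget fs f).p = h}

/-- the stabilisers of the edge points are generated by the listed words -/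
def EdgeStab : Prop :=
  ∀ e < S.edges.length, ∀ h : H, (∀ i : Fin S.P.n, (i : Nat) = (S.edge e).pt → N.M.act h i = i) →
    h ∈ Subgroup.closure {u | ∃ k < (S.edge e).src.length, N.M.val ((S.edge e).src.getD k []) = u}

/-- the union of the living double cosets -/
def cover (ls : List Live) : Set Q :=
  {q | ∃ L ∈ ls, ∃ a b, q = N.f a * N.g L.i * N.f b}

variable {ls : List Live}

theorem cover_mul {q : Q} (h : q ∈ cover N ls) (a b : H) : N.f a * q * N.f b ∈ cover N ls := by
  obtain ⟨L, hL, c, d, rfl⟩ := h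
  exact ⟨L, hL, a * c, d * b, by rw [map_mul, map_mul]; group⟩

theorem cover_g {fs : List Fact} {dead : List Nat} (hfs : ∀ n < fs.length, N.FactOK (Setup.fget fs n))
    (h : S.okCover fs ls dead = true) : ∀ j, j ≤ S.defs.length → N.g j ∈ cover N ls := by
  intro j
  induction j using Nat.strong_induction_on with
  | _ j ih =>
    intro hj
    have h' := allBelow_spec h j (by omega)
    simp only [Bool.or_eq_true, List.any_eq_true, Bool.and_eq_true, Nat.beq_eq, Nat.blt_eq] at h'
    rcases h' with ⟨L, hL, rfl⟩ | ⟨f, -, ⟨⟨⟨hf, hty⟩, hi⟩, hlt⟩⟩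
    · exact ⟨L, hL, 1, 1, by simp⟩
    · have e := (hfs f hf).2.2.2 hty
      rw [hi] at e
      rw [e]
      exact cover_mul N (ih _ hlt (by omega)) _ _

theorem stab_move {fs : List Fact} (hfs : ∀ n < fs.length, N.FactOK (Setup.fget fs n)) {L : Live}
    (hL : S.okLive fs L = true) {s : H} (hs : s ∈ liveStab N fs L) :
    ∃ a, N.g L.i * N.f s = N.f a * N.g L.i := by
  simp only [Setup.okLive, Bool.and_eq_true, List.all_eq_true, Nat.beq_eq, Nat.blt_eq] at hL
  obtain ⟨⟨⟨-, hst⟩, -⟩, -⟩ := hL
  induction hs using Subgroup.closure_induction with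
  | mem s hs =>
    obtain ⟨f, hf, rfl⟩ := hs
    obtain ⟨⟨hlt, hty⟩, hi⟩ := hst f hf
    have e := (hfs f hlt).2.1 hty
    rw [hi] at e
    exact ⟨_, e⟩
  | one => exact ⟨1, by simp⟩
  | mul x y _ _ hx hy =>
    obtain ⟨a, ea⟩ := hx
    obtain ⟨b, eb⟩ := hy
    exact ⟨a * b, by rw [map_mul, ← mul_assoc, ea, mul_assoc, eb, map_mul]; group⟩
  | inv x _ hx =>
    obtain ⟨a, ea⟩ := hx
    refine ⟨a⁻¹, ?_⟩
    rw [map_inv, map_inv]
    calc N.g L.i * (N.f x)⁻¹
        = (N.f a)⁻¹ * (N.f a * N.g L.i) * (N.f x)⁻¹ := by group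
      _ = _ := by rw [← ea]; group

theorem comm_closure {e : Nat} (he : e < S.edges.length) {u : H}
    (hu : u ∈ Subgroup.closure {u | ∃ k < (S.edge e).src.length,
      N.M.val ((S.edge e).src.getD k []) = u}) :
    ∃ u', N.f u * N.T e = N.T e * N.f u' := by
  induction hu using Subgroup.closure_induction with
  | mem u hu =>
    obtain ⟨k, hk, rfl⟩ := hu
    exact ⟨_, N.comm e he k hk⟩
  | one => exact ⟨1, by simp⟩
  | mul x y _ _ hx hy =>
    obtain ⟨a, ea⟩ := hx
    obtain ⟨b, eb⟩ := hy
    exact ⟨a * b, by rw [map_mul, mul_assoc, eb, ← mul_assoc, ea, map_mul]; group⟩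
  | inv x _ hx =>
    obtain ⟨a, ea⟩ := hx
    refine ⟨a⁻¹, ?_⟩
    rw [map_inv, map_inv]
    calc (N.f x)⁻¹ * N.T e = (N.f x)⁻¹ * (N.T e * N.f a) * (N.f a)⁻¹ := by group
      _ = _ := by rw [← ea]; group

theorem live_T (hS : S.okSetup = true) {fs : List Fact}
    (hfs : ∀ n < fs.length, N.FactOK (Setup.fget fs n)) (hV : EdgeStab N)
    (hg : ∀ j, j ≤ S.defs.length → N.g j ∈ cover N ls) {L : Live} (hL : S.okLive fs L = true)
    {e : Nat} (he : e < S.edges.length) (h : H) :
    N.g L.i * N.f h * N.T e ∈ cover N ls := by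
  simp only [Setup.okLive, Bool.and_eq_true] at hL
  have hcls := allBelow_spec hL.2 e he
  generalize L.cls.getD e (.leaf (nat_lit 0)) = t at hcls
  simp only [Setup.okClass, Bool.and_eq_true, Bool.not_eq_true', Bool.or_eq_true] at hcls
  obtain ⟨hpt0, hcl⟩ := hcls
  have hE : (S.edge e).pt < S.P.n := by
    have := hS
    simp only [Setup.okSetup, Bool.and_eq_true, List.all_eq_true, Nat.blt_eq] at this
    obtain ⟨⟨⟨⟨⟨⟨-, hE⟩, -⟩, -⟩, -⟩, -⟩, -⟩ := this
    rw [Setup.edge, List.getD_eq_getElem?_getD, List.getElem?_eq_getElem he]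
    exact (hE _ (List.getElem_mem he)).1.1.1
  let pt : Fin S.P.n := ⟨(S.edge e).pt, hE⟩
  let M := N.M
  -- covered points are closed
  have closed : ∀ h : H, t.word (M.act h pt : Nat) ≠ 0 := by
    intro h
    have step : ∀ c : Fin S.P.n, t.word c ≠ 0 → ∀ x < S.P.g, t.word (S.P.img x c) ≠ 0 := by
      intro c hc x hx
      have := allBelow_spec hcl (c : Nat) c.2
      simp only [Bool.or_eq_true, Bool.and_eq_true, Nat.beq_eq] at this
      rcases this with h0 | ⟨hgen, -⟩
      · exact absurd h0 hc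
      · have := allBelow_spec hgen x hx
        simp only [Bool.not_eq_true'] at this
        exact Nat.ne_of_beq_eq_false this
    have hh : h ∈ Subgroup.closure (Set.range M.gen) := by rw [N.gen_top]; trivial
    have key : ∀ c : Fin S.P.n, t.word c ≠ 0 → t.word (M.act h c : Nat) ≠ 0 := by
      induction hh using Subgroup.closure_induction'' with
      | mem x hx =>
        obtain ⟨k, rfl⟩ := hx
        intro c hc
        have := step c hc (2 * k) (by rw [M.g_eq]; omega)
        rwa [← M.img _ (by rw [M.g_eq]; omega) c, show lv M.gen (2 * (k : Nat)) = M.gen k by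
          simp [lv]] at this
      | inv_mem x hx =>
        obtain ⟨k, rfl⟩ := hx
        intro c hc
        have := step c hc (2 * k + 1) (by rw [M.g_eq]; omega)
        rwa [← M.img _ (by rw [M.g_eq]; omega) c,
          show lv M.gen (2 * (k : Nat) + 1) = (M.gen k)⁻¹ by
            simp [lv, Nat.add_mod, show (2 * (k : Nat) + 1) / 2 = k by omega]] at this
      | one => intro c hc; rwa [M.act_one]
      | mul a b _ _ iha ihb => intro c hc; rw [M.act_mul]; exact ihb _ (iha c hc)
    exact key pt (by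
      intro h0; rw [show t.word (pt : Nat) = t.word (S.edge e).pt from rfl] at h0
      simp [h0] at hpt0)
  -- by induction on the position
  have good : ∀ P, ∀ c : Fin S.P.n, t.word c ≠ 0 → Nat.shiftRight (t.word c) 30 = P →
      ∀ h : H, M.π h pt = c → N.g L.i * N.f h * N.T e ∈ cover N ls := by
    intro P
    induction P using Nat.strong_induction_on with
    | _ P ih =>
      intro c hc hP h hh
      have := allBelow_spec hcl (c : Nat) c.2
      simp only [Bool.or_eq_true, Bool.and_eq_true, Nat.beq_eq, Nat.blt_eq] at this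
      rcases this with h0 | ⟨-, ⟨hf, hFi⟩, hrest⟩
      · exact absurd h0 hc
      generalize hfd : Nat.land (Nat.shiftRight (t.word (c : Nat)) (nat_lit 2)) (nat_lit 4095) = f at hf hFi hrest
      obtain ⟨hsh, hS0, hS1, -⟩ := hfs f hf
      simp only [Setup.okShape, Bool.and_eq_true, Nat.ble_eq] at hsh
      obtain ⟨⟨⟨⟨⟨⟨-, -⟩, hjle⟩, -⟩, hp⟩, hq⟩, hr⟩ := hsh
      cases hk : Nat.beq (Nat.land (t.word (c : Nat)) (nat_lit 2)) (nat_lit 0) with
      | true =>
        rw [hk] at hrest
        simp only [cond_true, Bool.and_eq_true, Bool.not_eq_true', Nat.beq_eq, Nat.blt_eq] at hrest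
        obtain ⟨⟨⟨⟨hty, hd⟩, hd0⟩, hdn⟩, hpos⟩ := hrest
        have e1 := hS0 hty
        rw [hFi] at e1
        rw [M.app_eq _ (M.ivw_lt (okW_spec hp))] at hd
        have hd0' : t.word (Nat.land (Nat.shiftRight (t.word (c : Nat)) (nat_lit 14)) (nat_lit 65535)) ≠ 0  :=
          Nat.ne_of_beq_eq_false hd0
        have := ih _ (hP ▸ hpos) ⟨_, hdn⟩ hd0' rfl (N.M.val (Setup.fget fs f).p * h) (by
          refine Fin.ext ?_
          rw [map_mul, Equiv.Perm.mul_apply, hh]
          show _ = Nat.land _ _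
          rw [← hd, Perms.act, M.val_ivw, map_inv, inv_inv])
        rw [map_mul, ← mul_assoc (N.g L.i),
          show N.g L.i * N.f (N.M.val (Setup.fget fs f).p) = N.wq (Setup.fget fs f).q * N.g L.i from e1] at this
        have h2 := cover_mul N this (N.M.val (Setup.fget fs f).q)⁻¹ 1
        rw [map_inv, map_one, mul_one] at h2
        rwa [show (N.f (N.M.val (Setup.fget fs f).q))⁻¹ *
            (N.wq (Setup.fget fs f).q * N.g L.i * N.f h * N.T e) = N.g L.i * N.f h * N.T e by
          simp only [Model.wq]; group] at h2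
      | false =>
        rw [hk] at hrest
        simp only [cond_false, Bool.and_eq_true, Nat.beq_eq] at hrest
        obtain ⟨⟨hty, hFe⟩, hc'⟩ := hrest
        have e1 := hS1 hty
        rw [hFi, hFe] at e1
        have e2 : M.act (M.val (ivw (Setup.fget fs f).r)) pt = c :=
          Fin.ext (by rw [← M.app_eq _ (M.ivw_lt (okW_spec hr))]; exact hc')
        rw [Perms.act, M.val_ivw, map_inv, inv_inv] at e2
        have hfix : ∀ i : Fin S.P.n, (i : Nat) = (S.edge e).pt →
            M.act ((M.val (Setup.fget fs f).r)⁻¹ * h) i = i := by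
          intro i hi
          obtain rfl : i = pt := Fin.ext hi
          simp only [Perms.act, map_mul, map_inv, mul_inv_rev, inv_inv, Equiv.Perm.mul_apply]
          rw [e2, Equiv.Perm.inv_eq_iff_eq, hh]
        obtain ⟨u', hu'⟩ := comm_closure N he (hV e he _ hfix)
        have : N.g L.i * N.f h * N.T e = N.wq (Setup.fget fs f).p * N.g (Setup.fget fs f).j *
            N.f (N.M.val (Setup.fget fs f).q * u') := by
          calc N.g L.i * N.f h * N.T e
              = N.g L.i * N.wq (Setup.fget fs f).r *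
                (N.f ((M.val (Setup.fget fs f).r)⁻¹ * h) * N.T e) := by
                  simp only [Model.wq, map_mul, map_inv, M]; group
            _ = N.g L.i * N.wq (Setup.fget fs f).r * N.T e * N.f u' := by rw [hu']; group
            _ = _ := by rw [e1, map_mul]; simp only [Model.wq]; group
        rw [this]
        exact cover_mul N (hg _ hjle) _ _
  refine good _ (M.π h pt) ?_ rfl h rfl
  have := closed h⁻¹
  rwa [Perms.act, map_inv, inv_inv] at this

theorem cover_univ (hS : S.okSetup = true) {fs : List Fact} {dead : List Nat}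
    (hfs : ∀ n < fs.length, N.FactOK (Setup.fget fs n)) (hV : EdgeStab N)
    (hls : ∀ L ∈ ls, S.okLive fs L = true) (hc : S.okCover fs ls dead = true) (q : Q) :
    q ∈ cover N ls := by
  have hg := cover_g N hfs hc
  have mulT : ∀ e < S.edges.length, ∀ x ∈ cover N ls, x * N.T e ∈ cover N ls := by
    rintro e he _ ⟨L, hL, a, b, rfl⟩
    have := cover_mul N (live_T N hS hfs hV hg (hls L hL) he b) a 1
    rwa [map_one, mul_one, ← mul_assoc, ← mul_assoc] at this
  have mulTi : ∀ e < S.edges.length, ∀ x ∈ cover N ls, x * (N.T e)⁻¹ ∈ cover N ls := by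
    intro e he x hx
    have h' := hS
    simp only [Setup.okSetup, Bool.and_eq_true, List.all_eq_true] at h'
    obtain ⟨⟨⟨-, hinv⟩, hplain⟩, -⟩ := h'
    have hp := allBelow_spec hplain e he
    simp only [List.any_eq_true, Bool.and_eq_true, Nat.beq_eq, decide_eq_true_eq] at hp
    obtain ⟨L, hL, he', hcw⟩ := hp
    obtain ⟨j, hj, rfl⟩ := List.getElem_of_mem hL
    have hlet : S.letE (S.P.g + j) = S.lets[j] := by
      simp [Setup.letE, List.getD_eq_getElem?_getD, List.getElem?_eq_getElem hj]
    have e0 : N.gen' (S.P.g + j) = N.T e := by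
      rw [N.gen'_let _ (by omega) (by omega), hlet, hcw, he']
      simp [Perms.val, wv]
    rw [← e0, ← N.gen'_inv _ (by omega)]
    have hl := allBelow_spec hinv (S.P.g + j) (by omega)
    simp only [Nat.blt_eq] at hl
    generalize hl' : S.linv.getD (S.P.g + j) 0 = l
    rw [show S.linv.getD (S.P.g + j) (nat_lit 0) = l from hl'] at hl
    rcases lt_or_ge l S.P.g with h1 | h1
    · rw [N.gen'_lt l h1]
      have := cover_mul N hx 1 (N.M.val [l])
      rwa [map_one, one_mul] at this
    · rw [N.gen'_let l h1 hl]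
      have hx' := cover_mul N hx 1 (N.M.val (S.letE l).2)⁻¹
      rw [map_one, one_mul, map_inv] at hx'
      have := cover_mul N (mulT _ (letE_lt hS h1 hl) _ hx') 1 (N.M.val (S.letE l).2)
      rwa [map_one, one_mul, show x * (N.f (N.M.val (S.letE l).2))⁻¹ * N.T (S.letE l).1 *
          N.f (N.M.val (S.letE l).2) = x * ((N.f (N.M.val (S.letE l).2))⁻¹ * N.T (S.letE l).1 *
          N.f (N.M.val (S.letE l).2)) by group] at this
  have key : ∀ q ∈ Subgroup.closure (Set.range N.f ∪ {q | ∃ e < S.edges.length, N.T e = q}),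
      ∀ x ∈ cover N ls, x * q ∈ cover N ls := by
    intro q hq
    induction hq using Subgroup.closure_induction'' with
    | mem q hq =>
      rcases hq with ⟨h, rfl⟩ | ⟨e, he, rfl⟩
      · intro x hx
        simpa using cover_mul N hx 1 h
      · exact mulT e he
    | inv_mem q hq =>
      rcases hq with ⟨h, rfl⟩ | ⟨e, he, rfl⟩
      · intro x hx
        simpa using cover_mul N hx 1 h⁻¹
      · exact mulTi e he
    | one => simp
    | mul a b _ _ iha ihb => intro x hx; rw [← mul_assoc]; exact ihb _ (iha x hx)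
  have := key q (by rw [N.top]; trivial) (N.g 0) (hg 0 (Nat.zero_le _))
  rwa [show N.g 0 = 1 by simp [Model.g], one_mul] at this

/-- The index of the image of `H` is bounded by the indices of the stabilisers. -/
theorem index_le (hS : S.okSetup = true) {fs : List Fact} {dead : List Nat}
    (hf : ∀ n < fs.length, S.okFact fs n = true) (hV : EdgeStab N)
    (hls : ∀ L ∈ ls, S.okLive fs L = true) (hc : S.okCover fs ls dead = true) (m : Live → Nat)
    (hm : ∀ L ∈ ls, (liveStab N fs L).index ≤ m L ∧ (liveStab N fs L).index ≠ 0) :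
    N.f.range.index ≤ (ls.map m).sum ∧ N.f.range.index ≠ 0 := by
  have hfs := facts_sound N hS fs hf
  let Φ : (Σ k : Fin ls.length, H ⧸ liveStab N fs ls[k]) → Q ⧸ N.f.range := fun z =>
    Quotient.liftOn z.2 (fun h => ((N.f h * (N.g ls[z.1].i)⁻¹ : Q) : Q ⧸ N.f.range)) (by
      intro h h' hh
      rw [← Quotient.eq_iff_equiv, Quotient.eq, QuotientGroup.leftRel_apply] at hh
      obtain ⟨a, ha⟩ := stab_move N hfs (hls _ (List.getElem_mem _)) hh
      refine QuotientGroup.eq.2 ⟨a, ?_⟩
      simp only [map_mul, map_inv, Fin.getElem_fin] at ha ⊢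
      rw [(eq_mul_inv_of_mul_eq ha.symm)]
      group)
  have hΦ : Function.Surjective Φ := by
    intro y
    obtain ⟨q, rfl⟩ := QuotientGroup.mk_surjective y
    obtain ⟨L, hL, a, b, e⟩ := cover_univ N hS hfs hV hls hc q⁻¹
    obtain ⟨k, hk, rfl⟩ := List.getElem_of_mem hL
    refine ⟨⟨⟨k, hk⟩, (b⁻¹ : H)⟩, ?_⟩
    refine QuotientGroup.eq.2 ⟨a⁻¹, ?_⟩
    rw [show q = (q⁻¹)⁻¹ from (inv_inv q).symm, e]
    simp only [map_inv, Fin.getElem_fin]
    group
  have fin : ∀ k : Fin ls.length, Finite (H ⧸ liveStab N fs ls[k]) := fun k =>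
    Nat.finite_of_card_ne_zero (hm _ (List.getElem_mem _)).2
  have : Finite (Q ⧸ N.f.range) := Finite.of_surjective Φ hΦ
  have hle := Nat.card_le_card_of_surjective Φ hΦ
  rw [Nat.card_sigma, ← Subgroup.index_eq_card] at hle
  refine ⟨hle.trans ?_, ?_⟩
  · rw [show (ls.map m).sum = ∑ k : Fin ls.length, m ls[k] by
      rw [← List.sum_ofFn]; congr 1; exact (List.ofFn_getElem_eq_map ls m).symm]
    exact Finset.sum_le_sum fun k _ => (hm _ (List.getElem_mem _)).1
  · rw [Subgroup.index_eq_card]
    exact Nat.card_pos.ne'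

end CfsgLib.DCE
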