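import Cfsg.Agent.Lib.DCE.Grp

/-!
Complete lists of the elements of a small subgroup given by words, for counting.
-/

namespace CfsgLib.DCE

open CfsgLib.PresCert

/-- word number `k` of a packed tree: entry `gen + 2 ^ 4 * depth + 2 ^ 12 * parent`, word `0`
being empty -/
noncomputable def wordAt (gens : List (List Nat)) (t : BTree) (fuel : Nat) : Nat → List Nat :=
  Nat.rec (motive := fun _ => Nat → List Nat) (fun _ => [])
    (fun _ ih k => Bool.rec
      (let e := t.word k
       ih (Nat.shiftRight e (nat_lit 12)) ++ gens.getD (Nat.land e (nat_lit 15)) [])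
      [] (Nat.beq k (nat_lit 0))) fuel

/-- An enumeration: generators, the packed tree of words and its depth, the images of the base
(16 bits to each), the successors (14 bits to each generator) and the number of elements. -/
structure EnumData where
  gens : List (List Nat)
  tree : BTree
  depth : Nat
  vec : BTree
  succ : BTree
  len : Nat

/-- the words of an enumeration -/
noncomputable def EnumData.word (E : EnumData) (k : Nat) : List Nat :=
  wordAt E.gens E.tree E.depth k

/-- image of base point number `b` under element `k` -/
noncomputable def EnumData.im (E : EnumData) (k b : Nat) : Nat :=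
  Nat.land (Nat.shiftRight (E.vec.word k) (Nat.shiftLeft b (nat_lit 4))) (nat_lit 65535)

/-- depth of an element in the tree -/
noncomputable def EnumData.dep (E : EnumData) (k : Nat) : Nat :=
  Nat.land (Nat.shiftRight (E.tree.word k) (nat_lit 4)) (nat_lit 255)

/-- element `i` has the images of element `k` times generator `g` -/
noncomputable def EnumData.okStep (E : EnumData) (P : PermData) (base : List Nat) (k g i : Nat) :
    Bool :=
  allBelow base.length fun b => Nat.beq (E.im i b) (P.app (E.gens.getD g []) (E.im k b))

/-- the data of one element -/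
noncomputable def EnumData.okNode (E : EnumData) (P : PermData) (base : List Nat) (k : Nat) : Bool :=
  (Bool.rec
    (let e := E.tree.word k
     let par := Nat.shiftRight e (nat_lit 12)
     let g := Nat.land e (nat_lit 15)
     Nat.blt par E.len && Nat.blt g E.gens.length && Nat.ble (E.dep k) E.depth &&
       Nat.blt (E.dep par) (E.dep k) && E.okStep P base par g k)
    (Nat.beq (E.dep k) (nat_lit 0) &&
      allBelow base.length fun b => Nat.beq (E.im k b) (base.getD b (nat_lit 0)))
    (Nat.beq k (nat_lit 0))) &&
  allBelow E.gens.length fun g =>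
    let i := Nat.land (Nat.shiftRight (E.succ.word k) (Nat.mul g (nat_lit 14))) (nat_lit 16383)
    Nat.blt i E.len && E.okStep P base k g i

/-- the elements numbered `lo` to `lo + n` -/
noncomputable def EnumData.okFrom (E : EnumData) (P : PermData) (base : List Nat) (lo n : Nat) :
    Bool :=
  allBelow n fun j => E.okNode P base (Nat.add lo j)

/-- the shape of an enumeration -/
noncomputable def EnumData.okShape (E : EnumData) (P : PermData) : Bool :=
  Nat.blt (nat_lit 0) E.len && E.gens.all fun w => w.all fun x => Nat.blt x P.g

variable {P : PermData} {H : Type*} [Group H] (M : Perms P H)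

theorem wordAt_lt {gens : List (List Nat)} (hg : ∀ w ∈ gens, ∀ x ∈ w, x < P.g) (t : BTree) :
    ∀ fuel k, ∀ x ∈ wordAt gens t fuel k, x < P.g := by
  intro fuel
  induction fuel with
  | zero => intro k x hx; simp [wordAt] at hx
  | succ f ih =>
    intro k x hx
    simp only [wordAt] at hx
    cases hk : Nat.beq k 0 with
    | true => simp [hk] at hx
    | false =>
      simp only [hk, List.mem_append] at hx
      rcases hx with hx | hx
      · exact ih _ x hx
      · generalize Nat.land (t.word k) 15 = j at hx
        rw [List.getD_eq_getElem?_getD] at hx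
        cases he : gens[j]? with
        | none => simp [he] at hx
        | some w => simp only [he, Option.getD_some] at hx; exact hg w (List.mem_of_getElem? he) x hx

theorem wordAt_zero (gens : List (List Nat)) (t : BTree) (fuel : Nat) :
    wordAt gens t fuel 0 = [] := by
  cases fuel <;> rfl

theorem app_append (u w : List Nat) (i : Nat) : P.app (u ++ w) i = P.app w (P.app u i) := by
  induction u generalizing i with
  | nil => simp [PermData.app]
  | cons x u ih => simp [PermData.app, ih]

/-- the stored images are those of the words -/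
theorem app_word {base : List Nat} {E : EnumData}
    (hC : ∀ k < E.len, E.okFrom P base k 1 = true) :
    ∀ f k, k < E.len → E.dep k ≤ f → ∀ b < base.length,
      P.app (wordAt E.gens E.tree f k) (base.getD b 0) = E.im k b := by
  intro f
  induction f with
  | zero =>
    intro k hk hd b hb
    have h := allBelow_spec (hC k hk) 0 Nat.one_pos
    simp only [show Nat.add k 0 = k from rfl, EnumData.okNode, Bool.and_eq_true] at h
    cases hk0 : Nat.beq k 0 with
    | false =>
      simp only [hk0, Bool.and_eq_true, Nat.blt_eq] at h
      omega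
    | true =>
      simp only [hk0, Bool.and_eq_true] at h
      have h' := allBelow_spec h.1.2 b hb
      rw [Nat.beq_eq] at h'
      simp [wordAt, PermData.app, h']
  | succ f ih =>
    intro k hk hd b hb
    have h := allBelow_spec (hC k hk) 0 Nat.one_pos
    simp only [show Nat.add k 0 = k from rfl, EnumData.okNode, Bool.and_eq_true] at h
    simp only [wordAt]
    cases hk0 : Nat.beq k 0 with
    | true =>
      simp only [hk0, Bool.and_eq_true] at h
      have h' := allBelow_spec h.1.2 b hb
      rw [Nat.beq_eq] at h'
      simp [PermData.app, h']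
    | false =>
      simp only [hk0, Bool.and_eq_true, Nat.blt_eq] at h
      obtain ⟨⟨⟨⟨⟨hp, -⟩, -⟩, hdep⟩, hst⟩, -⟩ := h
      have h' := allBelow_spec hst b hb
      rw [Nat.beq_eq] at h'
      rw [h', app_append, ← ih _ hp (by omega) b hb]
      rfl

include M in
/-- the images of element `k` are those of its value -/
theorem act_word {base : List Nat} {E : EnumData} (hS : E.okShape P = true)
    (hC : ∀ k < E.len, E.okFrom P base k 1 = true) {k : Nat} (hk : k < E.len) {b : Nat}
    (hb : b < base.length) (hbn : base.getD b 0 < P.n) :
    (M.act (M.val (E.word k)) ⟨base.getD b 0, hbn⟩ : Nat) = E.im k b := by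
  simp only [EnumData.okShape, Bool.and_eq_true, List.all_eq_true, Nat.blt_eq] at hS
  have hd : E.dep k ≤ E.depth := by
    have h := allBelow_spec (hC k hk) 0 Nat.one_pos
    simp only [show Nat.add k 0 = k from rfl, EnumData.okNode, Bool.and_eq_true] at h
    cases hk0 : Nat.beq k 0 with
    | false =>
      simp only [hk0, Bool.and_eq_true, Nat.ble_eq] at h
      exact h.1.1.1.2
    | true =>
      simp only [hk0, Bool.and_eq_true, Nat.beq_eq] at h
      rw [h.1.1]; exact Nat.zero_le _
  rw [← M.app_eq (E.word k) (wordAt_lt hS.2 _ _ _) ⟨_, hbn⟩]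
  exact app_word hC _ _ hk hd b hb

/-- The listed words exhaust the subgroup generated by the generators of the enumeration. -/
theorem exists_word_of_mem [Finite H] {base : List Nat} (hbase : ∀ b ∈ base, b < P.n)
    (inj : ∀ h : H, (∀ i : Fin P.n, (i : Nat) ∈ base → M.act h i = i) → h = 1)
    {E : EnumData} (hS : E.okShape P = true)
    (hC : ∀ k < E.len, E.okFrom P base k 1 = true) {g : H}
    (hg : g ∈ Subgroup.closure {h | ∃ w ∈ E.gens, M.val w = h}) :
    ∃ k < E.len, M.val (E.word k) = g := by
  have hS' := hS
  simp only [EnumData.okShape, Bool.and_eq_true, List.all_eq_true, Nat.blt_eq] at hS'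
  obtain ⟨hpos, hgl⟩ := hS'
  let W : Set H := {q | ∃ k < E.len, M.val (E.word k) = q}
  have h1 : (1 : H) ∈ W := ⟨0, hpos, by simp [EnumData.word, wordAt_zero, Perms.val, wv]⟩
  have step : ∀ q ∈ W, ∀ w ∈ E.gens, q * M.val w ∈ W := by
    rintro _ ⟨k, hk, rfl⟩ w hw
    obtain ⟨g, hgi, rfl⟩ := List.getElem_of_mem hw
    have h := allBelow_spec (hC k hk) 0 Nat.one_pos
    simp only [show Nat.add k 0 = k from rfl, EnumData.okNode, Bool.and_eq_true] at h
    have h' := allBelow_spec h.2 g hgi
    simp only [Bool.and_eq_true, Nat.blt_eq] at h'
    obtain ⟨hi, hst⟩ := h'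
    refine ⟨_, hi, (mul_inv_eq_one.1 (inj _ fun p hp => ?_)).symm⟩
    obtain ⟨b, hb, e⟩ := List.getElem_of_mem hp
    have eb : base.getD b 0 = (p : Nat) := by
      rw [List.getD_eq_getElem?_getD, List.getElem?_eq_getElem hb, Option.getD_some, e]
    have hbn : base.getD b 0 < P.n := eb ▸ p.2
    have epb : p = ⟨base.getD b 0, hbn⟩ := Fin.ext eb.symm
    have h2 := allBelow_spec hst b hb
    rw [Nat.beq_eq] at h2
    rw [List.getD_eq_getElem?_getD, List.getElem?_eq_getElem hgi, Option.getD_some,
      ← act_word M hS hC hi hb hbn, ← act_word M hS hC hk hb hbn,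
      M.app_eq _ (hgl _ (List.getElem_mem hgi)), Fin.val_inj, ← Perms.act_mul, ← epb] at h2
    rw [Perms.act_mul, ← h2, ← Perms.act_mul, mul_inv_cancel, Perms.act_one]
  have hg' : g ∈ Submonoid.closure {h | ∃ w ∈ E.gens, M.val w = h} := by
    rw [← Subgroup.closure_toSubmonoid_of_finite, Subgroup.mem_toSubmonoid]
    exact hg
  clear hg
  have main : ∀ q ∈ W, q * g ∈ W := by
    induction hg' using Submonoid.closure_induction with
    | mem y hy => obtain ⟨w, hw, rfl⟩ := hy; exact fun q hq => step q hq w hw
    | one => intro q hq; rwa [mul_one]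
    | mul a b _ _ iha ihb => intro q hq; rw [← mul_assoc]; exact ihb _ (iha q hq)
  have h2 := main 1 h1
  rw [one_mul] at h2
  exact h2

/-- Counting the elements with a property. -/
theorem card_le_of_enum [Finite H] {base : List Nat}
    (hbase : ∀ b ∈ base, b < P.n)
    (inj : ∀ h : H, (∀ i : Fin P.n, (i : Nat) ∈ base → M.act h i = i) → h = 1)
    {E : EnumData} (hS : E.okShape P = true) (hC : ∀ k < E.len, E.okFrom P base k 1 = true)
    (U : Subgroup H) (hU : U ≤ Subgroup.closure {h | ∃ w ∈ E.gens, M.val w = h}) (p : H → Prop)
    (d : Nat → Bool) (hd : ∀ k < E.len, p (M.val (E.word k)) → d k = true) {c : Nat}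
    (hc : ((List.range E.len).filter d).length ≤ c) :
    Nat.card {s : U // p s} ≤ c := by
  classical
  have hsub : ∀ s : {s : U // p s},
      ((s.1 : H)) ∈ (((List.range E.len).filter d).map fun k => M.val (E.word k)).toFinset := by
    intro s
    obtain ⟨k, hk, e⟩ := exists_word_of_mem M hbase inj hS hC (hU s.1.2)
    rw [List.mem_toFinset, List.mem_map]
    exact ⟨k, List.mem_filter.2 ⟨List.mem_range.2 hk, hd k hk (e ▸ s.2)⟩, e⟩
  have h1 := Nat.card_le_card_of_injective
    (fun s : {s : U // p s} => (⟨_, hsub s⟩ :
      (((List.range E.len).filter d).map fun k => M.val (E.word k)).toFinset))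
    fun a b e => Subtype.ext (Subtype.ext (congrArg Subtype.val e :))
  rw [Nat.card_eq_finsetCard] at h1
  exact h1.trans ((List.toFinset_card_le _).trans ((List.length_map ..).trans_le hc))

end CfsgLib.DCE
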