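import Cfsg.Agent.Lib.DCE.Count

/-!
Using a closed enumeration: evaluation of words by runs, and, when the index is the bound, fixed
points and centralisers of elements of the image of `H`.
-/

namespace CfsgLib.DCE

open CfsgLib.PresCert

variable {S : Setup} {H Q : Type*} [Group H] [Group Q] (N : Model S H Q)

include N in
/-- A run returning to the first orbit gives the exact value of a word. -/
theorem val_of_run (hS : S.okSetup = true) {fs : List Fact} {n : Nat}
    (hfs : ∀ f < n, N.FactOK (Setup.fget fs f)) {st : List Step} {ls w : List Nat} {t : St}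
    (h : S.run fs n st ls ⟨[], 0, []⟩ = some t) (hi : t.i = 0) (hw : S.okW w = true)
    (hsame : S.same (t.v ++ t.k) w = true) : (ls.map N.gen').prod = N.wq w := by
  obtain ⟨⟨hv, hk⟩, e⟩ := run_sound N hS hfs st ls ⟨[], 0, []⟩ t ⟨by simp, by simp⟩ h
  have hg : N.g 0 = 1 := by simp [Model.g]
  rw [Model.sv, Model.sv, hi, hg, Model.wq_nil] at e
  simp only [mul_one, one_mul] at e
  rw [e, ← Model.wq_append]
  refine same_wq N ?_ (okW_spec hw) hsame
  simp only [List.mem_append]
  rintro x (hx | hx)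
  exacts [hv x hx, hk x hx]

/-- the check: the run of a word ends with the value of `w` -/
noncomputable def Setup.okVal (S : Setup) (fs : List Fact) (n : Nat) (st : List Step)
    (ls w : List Nat) : Bool :=
  S.okW w &&
  match S.run fs n st ls ⟨[], nat_lit 0, []⟩ with
  | some t => Nat.beq t.i (nat_lit 0) && S.same (t.v ++ t.k) w
  | none => false

include N in
theorem okVal_spec (hS : S.okSetup = true) {fs : List Fact} {n : Nat}
    (hfs : ∀ f < n, N.FactOK (Setup.fget fs f)) {st : List Step} {ls w : List Nat}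
    (h : S.okVal fs n st ls w = true) : (ls.map N.gen').prod = N.wq w := by
  simp only [Setup.okVal, Bool.and_eq_true] at h
  obtain ⟨hw, h⟩ := h
  split at h
  · next t ht =>
    simp only [Bool.and_eq_true, Nat.beq_eq] at h
    exact val_of_run N hS hfs ht h.1 hw h.2
  · cases h

/-! ### Cosets -/

variable {fs : List Fact} {ls : List Live}

/-- the coset with a given orbit and coordinate -/
noncomputable def pointOf (hls : ∀ L ∈ ls, S.okLive fs L = true)
    (hfs : ∀ n < fs.length, N.FactOK (Setup.fget fs n))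
    (z : Σ k : Fin ls.length, H ⧸ liveStab N fs ls[k]) : Q ⧸ N.f.range :=
  Quotient.liftOn z.2 (fun h => ((N.f h * (N.g ls[z.1].i)⁻¹ : Q) : Q ⧸ N.f.range)) (by
    intro h h' hh
    rw [← Quotient.eq_iff_equiv, Quotient.eq, QuotientGroup.leftRel_apply] at hh
    obtain ⟨a, ha⟩ := stab_move N hfs (hls _ (List.getElem_mem _)) hh
    refine QuotientGroup.eq.2 ⟨a, ?_⟩
    simp only [map_mul, map_inv, Fin.getElem_fin] at ha ⊢
    rw [(eq_mul_inv_of_mul_eq ha.symm)]
    group)

theorem pointOf_mk (hls : ∀ L ∈ ls, S.okLive fs L = true)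
    (hfs : ∀ n < fs.length, N.FactOK (Setup.fget fs n)) (k : Fin ls.length) (h : H) :
    pointOf N hls hfs ⟨k, h⟩ = ((N.f h * (N.g ls[k].i)⁻¹ : Q) : Q ⧸ N.f.range) := rfl

theorem pointOf_smul (hls : ∀ L ∈ ls, S.okLive fs L = true)
    (hfs : ∀ n < fs.length, N.FactOK (Setup.fget fs n)) (k : Fin ls.length)
    (a : H) (c : H ⧸ liveStab N fs ls[k]) :
    N.f a • pointOf N hls hfs ⟨k, c⟩ = pointOf N hls hfs ⟨k, a • c⟩ := by
  induction c using QuotientGroup.induction_on with
  | H h =>
    rw [MulAction.Quotient.smul_mk, pointOf_mk, pointOf_mk, MulAction.Quotient.smul_mk]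
    congr 1
    simp [mul_assoc]

/-- When the index is the sum of the stabiliser indices the coordinates are exact. -/
theorem pointOf_bijective (hS : S.okSetup = true) {dead : List Nat}
    (hls : ∀ L ∈ ls, S.okLive fs L = true)
    (hfs : ∀ n < fs.length, N.FactOK (Setup.fget fs n)) (hV : EdgeStab N)
    (hc : S.okCover fs ls dead = true) (m : Live → Nat)
    (hm : ∀ L ∈ ls, (liveStab N fs L).index ≤ m L ∧ (liveStab N fs L).index ≠ 0)
    (hidx : N.f.range.index = (ls.map m).sum) :
    Function.Bijective (pointOf N hls hfs) := by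
  have hsurj : Function.Surjective (pointOf N hls hfs) := by
    intro y
    obtain ⟨q, rfl⟩ := QuotientGroup.mk_surjective y
    obtain ⟨L, hL, a, b, e⟩ := cover_univ N hS hfs hV hls hc q⁻¹
    obtain ⟨k, hk, rfl⟩ := List.getElem_of_mem hL
    refine ⟨⟨⟨k, hk⟩, (b⁻¹ : H)⟩, ?_⟩
    refine QuotientGroup.eq.2 ⟨a⁻¹, ?_⟩
    rw [show q = (q⁻¹)⁻¹ from (inv_inv q).symm, e]
    simp only [map_inv, Fin.getElem_fin]
    group
  haveI fin : ∀ k : Fin ls.length, Finite (H ⧸ liveStab N fs ls[k]) := fun k =>
    Nat.finite_of_card_ne_zero (hm _ (List.getElem_mem _)).2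
  haveI : Finite (Q ⧸ N.f.range) := Finite.of_surjective _ hsurj
  refine (Nat.bijective_iff_surjective_and_card _).2 ⟨hsurj, ?_⟩
  refine le_antisymm ?_ (Nat.card_le_card_of_surjective _ hsurj)
  rw [Nat.card_sigma, ← Subgroup.index_eq_card, hidx,
    show (ls.map m).sum = ∑ k : Fin ls.length, m ls[k] by
      rw [← List.sum_ofFn]; congr 1; exact (List.ofFn_getElem_eq_map ls m).symm]
  exact Finset.sum_le_sum fun k _ => (hm _ (List.getElem_mem _)).1

/-- the fixed points of `a` on the cosets of `U` are few when few elements of `U` are conjugates -/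
theorem fixed_mul_card_le {H : Type*} [Group H] [Finite H] (U : Subgroup H) (a : H) (P : H → Prop)
    (hP : ∀ h : H, h⁻¹ * a * h ∈ U → P (h⁻¹ * a * h)) :
    Nat.card {c : H ⧸ U // a • c = c} * Nat.card U ≤
      Nat.card (Subgroup.centralizer ({a} : Set H)) * Nat.card {s : U // P s} := by
  classical
  let B : Set H := {h | h⁻¹ * a * h ∈ U}
  have hB : ∀ h, h ∈ B ↔ a • (h : H ⧸ U) = h := fun h => by
    rw [MulAction.Quotient.smul_mk, eq_comm, QuotientGroup.eq, smul_eq_mul, ← mul_assoc]
    rfl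
  have h1 : Nat.card {c : H ⧸ U // a • c = c} * Nat.card U = Nat.card B := by
    rw [← Nat.card_prod]
    refine Nat.card_congr
      { toFun := fun z => ⟨(z.1.1.out : H) * z.2, (hB _).2 ?_⟩
        invFun := fun h => (⟨(h.1 : H ⧸ U), (hB _).1 h.2⟩,
          ⟨((h.1 : H ⧸ U).out)⁻¹ * h.1, QuotientGroup.eq.1 (QuotientGroup.out_eq' _)⟩)
        left_inv := fun z => ?_
        right_inv := fun h => Subtype.ext (by simp) }
    · rw [QuotientGroup.mk_mul_of_mem _ z.2.2, QuotientGroup.out_eq']
      exact z.1.2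
    · have e : (((z.1.1.out : H) * z.2 : H) : H ⧸ U) = z.1.1 := by
        rw [QuotientGroup.mk_mul_of_mem _ z.2.2, QuotientGroup.out_eq']
      refine Prod.ext (Subtype.ext e) (Subtype.ext ?_)
      simp only [e]
      simp [← mul_assoc]
  rw [h1, ← Nat.card_prod]
  let f : B → {s : U // P s} := fun h => ⟨⟨h.1⁻¹ * a * h.1, h.2⟩, hP _ h.2⟩
  let r : {s : U // P s} → H := fun s => if hs : ∃ h : B, f h = s then hs.choose.1 else 1
  have hr : ∀ h : B, (r (f h))⁻¹ * a * r (f h) = h.1⁻¹ * a * h.1 := fun h => by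
    have hs : ∃ h' : B, f h' = f h := ⟨h, rfl⟩
    simp only [r, dif_pos hs]
    exact congrArg (fun s : {s : U // P s} => (s.1 : H)) hs.choose_spec
  have hmem : ∀ h : B, h.1 * (r (f h))⁻¹ ∈ Subgroup.centralizer ({a} : Set H) := fun h => by
    rw [Subgroup.mem_centralizer_singleton_iff]
    calc h.1 * (r (f h))⁻¹ * a
        = h.1 * ((r (f h))⁻¹ * a * r (f h)) * (r (f h))⁻¹ := by group
      _ = a * (h.1 * (r (f h))⁻¹) := by rw [hr h]; group
  refine Nat.card_le_card_of_injective
    (fun h : B => ((⟨_, hmem h⟩ : Subgroup.centralizer ({a} : Set H)), f h)) ?_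
  intro h h' e
  simp only [Prod.mk.injEq, Subtype.mk.injEq] at e
  obtain ⟨e1, e2⟩ := e
  exact Subtype.ext (mul_right_cancel (b := (r (f h'))⁻¹) (by rw [← e1, show f h = f h' from e2]))

/-- Bound for the centraliser of an element of the image of `H`. -/
theorem card_centralizer_le [Finite Q] (hls : ∀ L ∈ ls, S.okLive fs L = true)
    (hfs : ∀ n < fs.length, N.FactOK (Setup.fget fs n))
    (hbij : Function.Bijective (pointOf N hls hfs)) (hinj : Function.Injective N.f) (a : H)
    (b : Fin ls.length → Nat) {c : Nat}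
    (hb : ∀ k, Nat.card {x : H ⧸ liveStab N fs ls[k] // a • x = x} ≤ b k)
    (hc : Nat.card (Subgroup.centralizer ({a} : Set H)) ≤ c) :
    Nat.card (Subgroup.centralizer ({N.f a} : Set Q)) ≤ (∑ k, b k) * c := by
  haveI : Finite H := Finite.of_injective _ hinj
  set C := Subgroup.centralizer ({N.f a} : Set Q) with hC
  let one : Q ⧸ N.f.range := ((1 : Q) : Q ⧸ N.f.range)
  rw [← Subgroup.card_mul_index (MulAction.stabilizer C one), MulAction.index_stabilizer,
    Nat.mul_comm (∑ k, b k)]
  refine Nat.mul_le_mul (le_trans ?_ hc) ?_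
  · have hmem : ∀ g : MulAction.stabilizer C one, ((g : C) : Q) ∈ N.f.range := fun g => by
      have h : ((g : C) : Q) • one = one := g.2
      simp only [one, MulAction.Quotient.smul_mk, smul_eq_mul, mul_one] at h
      simpa using QuotientGroup.eq.1 h.symm
    have hmem' : ∀ g : MulAction.stabilizer C one, ∃ h : H, N.f h = ((g : C) : Q) := hmem
    choose φ hφ using hmem'
    refine Nat.card_le_card_of_injective
      (fun g => (⟨φ g, Subgroup.mem_centralizer_singleton_iff.2 (hinj ?_)⟩ :
        Subgroup.centralizer ({a} : Set H))) fun g g' e => ?_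
    · rw [map_mul, map_mul, hφ]
      exact Subgroup.mem_centralizer_singleton_iff.1 (g : C).2
    · have e' : φ g = φ g' := congrArg Subtype.val e
      exact Subtype.ext (Subtype.ext (by rw [← hφ g, ← hφ g', e']))
  · have hsub : MulAction.orbit C one ⊆ {q | N.f a • q = q} := by
      rintro _ ⟨g, rfl⟩
      show N.f a • ((g : Q) • one) = (g : Q) • one
      rw [← mul_smul, ← Subgroup.mem_centralizer_singleton_iff.1 g.2, mul_smul]
      congr 1
      simp only [one, MulAction.Quotient.smul_mk, smul_eq_mul, mul_one]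
      exact QuotientGroup.eq.2 ⟨a⁻¹, by simp⟩
    refine (Set.ncard_le_ncard hsub (Set.toFinite _)).trans ?_
    rw [← Nat.card_coe_set_eq]
    have key : Nat.card {q : Q ⧸ N.f.range // N.f a • q = q} =
        Nat.card (Σ k : Fin ls.length, {x : H ⧸ liveStab N fs ls[k] // a • x = x}) := by
      have hiff : ∀ k x, N.f a • pointOf N hls hfs ⟨k, x⟩ = pointOf N hls hfs ⟨k, x⟩ ↔ a • x = x := by
        intro k x
        rw [pointOf_smul]
        exact ⟨fun h => eq_of_heq (Sigma.mk.inj (hbij.1 h)).2, fun h => by rw [h]⟩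
      refine (Nat.card_congr (Equiv.ofBijective
        (fun z : Σ k : Fin ls.length, {x : H ⧸ liveStab N fs ls[k] // a • x = x} =>
          (⟨pointOf N hls hfs ⟨z.1, z.2.1⟩, (hiff _ _).2 z.2.2⟩ :
            {q : Q ⧸ N.f.range // N.f a • q = q})) ⟨?_, ?_⟩)).symm
      · rintro ⟨k, x, hx⟩ ⟨k', x', hx'⟩ h
        have h' := hbij.1 (congrArg Subtype.val h)
        simp only [Sigma.mk.inj_iff] at h'
        obtain ⟨rfl, h'⟩ := h'
        cases eq_of_heq h'
        rfl
      · rintro ⟨q, hq⟩
        obtain ⟨⟨k, x⟩, rfl⟩ := hbij.2 q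
        exact ⟨⟨k, x, (hiff k x).1 hq⟩, rfl⟩
    rw [show Nat.card {q | N.f a • q = q} = Nat.card {q : Q ⧸ N.f.range // N.f a • q = q} from rfl, key]
    haveI : Finite (Σ k : Fin ls.length, H ⧸ liveStab N fs ls[k]) :=
      Finite.of_injective _ hbij.1
    rw [Nat.card_sigma]
    exact Finset.sum_le_sum fun k _ => hb k

end CfsgLib.DCE
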