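import Cfsg.Agent.Lib.DCE.Sound

/-!
Every checked fact holds.
-/

namespace CfsgLib.DCE

open CfsgLib.PresCert

variable {S : Setup} {H Q : Type*} [Group H] [Group Q] (N : Model S H Q)

theorem rot_prod {α : Type*} [Group α] (f : Nat → α) (w : List Nat) (i : Nat)
    (h : (w.map f).prod = 1) : ((w.drop i ++ w.take i).map f).prod = 1 := by
  rw [← List.take_append_drop i w, List.map_append, List.prod_append] at h
  rw [List.map_append, List.prod_append]
  exact mul_eq_one_comm.1 h

theorem letters_lt (hS : S.okSetup = true) {r : Nat} (hr : r < S.rels.length) :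
    ∀ x ∈ S.rels.getD r [], x < S.P.g + S.lets.length := by
  simp only [Setup.okSetup, Bool.and_eq_true, List.all_eq_true, Nat.blt_eq] at hS
  obtain ⟨⟨⟨⟨-, hR⟩, -⟩, -⟩, -⟩ := hS
  rw [List.getD_eq_getElem?_getD, List.getElem?_eq_getElem hr]
  exact hR _ (List.getElem_mem hr)

include N in
theorem invAll_prod : ∀ w : List Nat, (∀ x ∈ w, x < S.P.g + S.lets.length) →
    ((S.invAll w).map N.gen').prod = ((w.map N.gen').prod)⁻¹ := by
  intro w
  induction w with
  | nil => simp [Setup.invAll]
  | cons x w ih =>
    intro hw
    obtain ⟨hx, hw'⟩ := List.forall_mem_cons.1 hw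
    simp only [Setup.invAll, List.reverse_cons, List.map_append, List.map_cons, List.map_nil,
      List.prod_append, List.prod_cons, List.prod_nil, mul_one, mul_inv_rev] at ih ⊢
    rw [ih hw', N.gen'_inv x hx]

theorem wordLt_append {u w : List Nat} (hu : ∀ x ∈ u, x < S.P.g) (hw : ∀ x ∈ w, x < S.P.g) :
    ∀ x ∈ u ++ w, x < S.P.g := by
  simp only [List.mem_append]
  rintro x (hx | hx)
  · exact hu x hx
  · exact hw x hx

theorem stab_concl {VA VB gi kA kB p q : Q} (h : VA * gi * kA = VB * gi * kB)
    (hp : kA * kB⁻¹ = p) (hq : VA⁻¹ * VB = q) : gi * p = q * gi := by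
  rw [← hp, ← hq]
  calc gi * (kA * kB⁻¹) = VA⁻¹ * (VA * gi * kA) * kB⁻¹ := by group
    _ = _ := by rw [h]; group

theorem coin_concl {VA VB gi gj kA kB p q : Q} (h : VA * gi * kA = VB * gj * kB)
    (hp : VA⁻¹ * VB = p) (hq : kB * kA⁻¹ = q) : gi = p * gj * q := by
  rw [← hp, ← hq]
  calc gi = VA⁻¹ * (VA * gi * kA) * kA⁻¹ := by group
    _ = _ := by rw [h]; group

theorem edge_concl {VA VB gi gj kA kB c T r su iu p q : Q}
    (h : VA * gi * kA * (c⁻¹ * T * c) = VB * gj * kB) (hk : kA * c⁻¹ = r * su)
    (hc : su * T = T * iu) (hp : VA⁻¹ * VB = p) (hq : kB * (c⁻¹ * iu⁻¹) = q) :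
    gi * r * T = p * gj * q := by
  have e := edge_move (v := VA) (gi := gi) (p := 1) (gj := gi * r * T) (q := 1) hk hc
    (by group : gi * r * T = 1 * (gi * r * T) * 1)
  rw [h] at e
  rw [← hp, ← hq]
  calc gi * r * T = VA⁻¹ * (VA * 1 * (gi * r * T) * (1 * (iu * c))) * (c⁻¹ * iu⁻¹) := by group
    _ = _ := by rw [← e]; group

include N in
theorem fact_sound (hS : S.okSetup = true) {fs : List Fact} {n : Nat}
    (h : S.okFact fs n = true) (hfs : ∀ f < n, N.FactOK (Setup.fget fs f)) :
    N.FactOK (Setup.fget fs n) := by
  unfold Setup.okFact at h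
  generalize Setup.fget fs n = F at h ⊢
  simp only [Bool.and_eq_true] at h
  obtain ⟨hsh, h⟩ := h
  have hsh' := hsh
  simp only [Setup.okShape, Bool.and_eq_true, Nat.ble_eq] at hsh
  obtain ⟨⟨⟨⟨⟨⟨hty, -⟩, -⟩, -⟩, hp⟩, hq⟩, hr⟩ := hsh
  refine ⟨hsh', ?_⟩
  cases hj : F.just with
  | base =>
    simp only [hj, decide_eq_true_eq] at h
    obtain ⟨h0, hi, hpq⟩ := h
    refine ⟨fun _ => ?_, fun e => absurd (h0.symm.trans e) (by omega),
      fun e => absurd (h0.symm.trans e) (by omega)⟩
    rw [hi, hpq]
    simp [Model.g]
  | defEdge =>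
    simp only [hj, decide_eq_true_eq] at h
    obtain ⟨h1, hj0, hp0, hq0, hd⟩ := h
    refine ⟨fun e => absurd (h1.symm.trans e) (by omega), fun _ => ?_,
      fun e => absurd (h1.symm.trans e) (by omega)⟩
    obtain ⟨j, hj'⟩ : ∃ j, F.j = j + 1 := ⟨F.j - 1, by omega⟩
    rw [hj', Nat.add_sub_cancel] at hd
    have hg : S.defs.getD j (0, 0, []) = (F.i, F.e, F.r) := by
      rw [List.getD_eq_getElem?_getD, hd]; rfl
    have hle : F.i ≤ j := by
      have := hS
      simp only [Setup.okSetup, Bool.and_eq_true] at this
      have h' := allBelow_spec this.2 j (by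
        rcases lt_or_ge j S.defs.length with hl | hl
        · exact hl
        · rw [List.getElem?_eq_none hl] at hd; cases hd)
      simp only [Bool.and_eq_true, Nat.ble_eq] at h'
      rw [show (S.defs.getD j (nat_lit 0, nat_lit 0, [])) = (F.i, F.e, F.r) from hg] at h'
      exact h'.1.1
    rw [hp0, hq0, Model.wq_nil, one_mul, mul_one, hj', Model.g, dif_pos (by rw [hg]; exact hle), hg]
  | loop start k rel rot lp swap r1 r2 gap =>
    simp only [hj] at h
    generalize hw : (S.rels.getD rel []).drop rot ++ (S.rels.getD rel []).take rot = w at h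
    simp only [Bool.and_eq_true, decide_eq_true_eq] at h
    obtain ⟨⟨hrel, hstart, hk, hlp, hlp1⟩, h⟩ := h
    have hwlt : ∀ x ∈ w, x < S.P.g + S.lets.length := by
      subst hw
      intro x hx
      simp only [List.mem_append] at hx
      rcases hx with hx | hx
      · exact letters_lt hS hrel x (List.mem_of_mem_drop hx)
      · exact letters_lt hS hrel x (List.mem_of_mem_take hx)
    have hw1 : (w.map N.gen').prod = 1 := by
      subst hw
      refine rot_prod _ _ _ (N.rels_eq _ ?_)
      rw [List.getD_eq_getElem?_getD, List.getElem?_eq_getElem hrel]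
      exact List.getElem_mem hrel
    split at h
    next A0 B0 hA hB =>
      have hs0 : StOK S ⟨[], start, k⟩ := ⟨by simp, okW_spec hk⟩
      obtain ⟨okA, eA⟩ := run_sound N hS hfs r1 _ _ _ hs0 hA
      obtain ⟨okB, eB⟩ := run_sound N hS hfs r2 _ _ _ hs0 hB
      rw [invAll_prod N] at eB
      swap
      · intro x hx
        split_ifs at hx <;> exact hwlt x (List.mem_of_mem_drop hx)
      simp only [Bool.and_eq_true, decide_eq_true_eq] at h
      obtain ⟨⟨⟨hAi, hBj⟩, hv⟩, h⟩ := h
      generalize hA' : (if swap then B0 else A0) = A at hAi hBj hv h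
      generalize hB' : (if swap then A0 else B0) = B at hAi hBj hv h
      have okA' : StOK S A := by subst hA'; cases swap <;> assumption
      have okB' : StOK S B := by subst hB'; cases swap <;> assumption
      have hvw : N.wq (ivw A.v ++ B.v) = N.wq (if F.ty = 0 then F.q else F.p) :=
        same_wq N (wordLt_append (N.M.ivw_lt okA'.1) okB'.1)
          (by split_ifs <;> [exact okW_spec hq; exact okW_spec hp]) hv
      simp only [Model.wq_append, Model.wq_ivw] at hvw
      by_cases h1 : F.ty = 1
      · refine ⟨fun e => absurd (h1.symm.trans e) (by omega), fun _ => ?_,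
          fun e => absurd (h1.symm.trans e) (by omega)⟩
        simp only [h1, if_true, Bool.and_eq_true, decide_eq_true_eq] at h eB
        rw [if_neg (by omega)] at hvw
        obtain ⟨⟨⟨⟨hl1, hl2, hle⟩, hgap⟩, hsA⟩, hsB⟩ := h
        have hlp' := hlp1 h1
        set l0 := w.getD lp 0 with hl0
        set l := if swap then S.linv.getD l0 0 else l0 with hl
        have hl0lt : l0 < S.P.g + S.lets.length := by
          rw [hl0, List.getD_eq_getElem?_getD, List.getElem?_eq_getElem hlp']
          exact hwlt _ (List.getElem_mem hlp')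
        have hsplit : (w.map N.gen').prod = ((w.take lp).map N.gen').prod * N.gen' l0 *
            ((w.drop (lp + 1)).map N.gen').prod := by
          conv_lhs => rw [← List.take_append_drop lp w, List.drop_eq_getElem_cons hlp']
          rw [List.map_append, List.prod_append, List.map_cons, List.prod_cons, hl0,
            List.getD_eq_getElem?_getD, List.getElem?_eq_getElem hlp', Option.getD_some, mul_assoc]
        have e0 : N.sv A0 * N.gen' l0 = N.sv B0 := by
          rw [hsplit] at hw1
          rw [← eA, ← eB, mul_assoc]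
          exact congrArg _ (eq_inv_of_mul_eq_one_left hw1)
        have e1 : N.sv A * N.gen' l = N.sv B := by
          rw [hl, ← hA', ← hB']
          cases swap with
          | true =>
            simp only [if_true]
            rw [N.gen'_inv l0 hl0lt, ← e0, mul_inv_cancel_right]
          | false => simpa using e0
        simp only [List.all_eq_true, Nat.blt_eq] at hgap
        obtain ⟨hsrc, himg⟩ := srcImg_lt hS (S.letE l).1 gap
        have hc := letW_lt hS l
        have hkA := same_wq N (wordLt_append okA'.2 (N.M.ivw_lt hc))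
          (wordLt_append (okW_spec hr) hsrc) hsA
        have hkB := same_wq N
          (wordLt_append okB'.2 (wordLt_append (N.M.ivw_lt hc) (N.M.ivw_lt himg)))
          (okW_spec hq) hsB
        simp only [Model.wq_append, Model.wq_ivw] at hkA hkB
        simp only [Model.sv, hAi, hBj, N.gen'_let l hl1 hl2] at e1
        have := edge_concl e1 hkA (comm_word N _ (letE_lt hS hl1 hl2) gap hgap) hvw hkB
        rwa [hle] at this
      · simp only [h1, if_false] at eB
        have e0 : N.sv A0 = N.sv B0 := by
          rw [← List.take_append_drop lp w, List.map_append, List.prod_append] at hw1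
          rw [← eA, ← eB]
          exact congrArg _ (eq_inv_of_mul_eq_one_left hw1)
        have e1 : N.sv A = N.sv B := by subst hA' hB'; cases swap <;> simp [e0]
        simp only [Model.sv, hAi, hBj] at e1
        refine ⟨fun h0 => ?_, fun e => absurd e h1, fun h2 => ?_⟩
        · simp only [h0, Bool.and_eq_true, decide_eq_true_eq] at h
          rw [if_pos h0] at hvw
          obtain ⟨hij, hs⟩ := h
          have hkk := same_wq N (wordLt_append okA'.2 (N.M.ivw_lt okB'.2)) (okW_spec hp) hs
          simp only [Model.wq_append, Model.wq_ivw] at hkk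
          rw [← hij] at e1
          exact stab_concl e1 hkk hvw
        · simp only [h2] at h
          rw [if_neg (by omega)] at hvw
          have hkk := same_wq N (wordLt_append okB'.2 (N.M.ivw_lt okA'.2)) (okW_spec hq) h
          simp only [Model.wq_append, Model.wq_ivw] at hkk
          exact coin_concl e1 hvw hkk
    next => simp at h

include N in
theorem facts_sound (hS : S.okSetup = true) (fs : List Fact)
    (h : ∀ n < fs.length, S.okFact fs n = true) : ∀ n < fs.length, N.FactOK (Setup.fget fs n) := by
  intro n
  induction n using Nat.strong_induction_on with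
  | _ n ih =>
    intro hn
    exact fact_sound N hS (h n hn) fun f hf => ih f hf (hf.trans hn)

theorem okRange_get {fs : List Fact} {lo len : Nat} (h : S.okRange fs lo len = true) :
    ∀ n, lo ≤ n → n < lo + len → S.okFact fs n = true := by
  intro n h1 h2
  have := allBelow_spec h (n - lo) (by omega)
  rwa [show Nat.add lo (n - lo) = n from Nat.add_sub_cancel' h1] at this

end CfsgLib.DCE
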