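import Cfsg.Agent.Lib.DCE.Words

/-!
A quicker evaluation of words: one natural number for the images under each letter.
-/

namespace CfsgLib.DCE

open CfsgLib.PresCert

/-- entry `i` of a row -/
noncomputable def rowGet (r i : Nat) : Nat :=
  Nat.land (Nat.shiftRight r (Nat.shiftLeft i (nat_lit 4))) (nat_lit 65535)

/-- apply a word using the rows of a tree -/
noncomputable def fapp (ft : BTree) (w : List Nat) : Nat → Nat :=
  List.rec (motive := fun _ => Nat → Nat) (fun i => i)
    (fun k _ ih i => ih (rowGet (ft.get k) i)) w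

/-- apply the inverse of a word using the rows of a tree -/
noncomputable def bapp (ft : BTree) (w : List Nat) : Nat → Nat :=
  List.rec (motive := fun _ => Nat → Nat) (fun i => i)
    (fun k _ ih i => rowGet (ft.get (Nat.xor k (nat_lit 1))) (ih i)) w

/-- the rows agree with the tables -/
noncomputable def okFlat (P : PermData) (ft : BTree) : Bool :=
  allBelow P.g fun k =>
    allBelow P.n fun i => Nat.beq (rowGet (ft.get k) i) (P.img k i) && Nat.blt (P.img k i) P.n

theorem fapp_eq {P : PermData} {ft : BTree} (h : okFlat P ft = true) :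
    ∀ (w : List Nat), (∀ x ∈ w, x < P.g) → ∀ i < P.n, fapp ft w i = P.app w i := by
  intro w
  induction w with
  | nil => intros; rfl
  | cons k w ih =>
    intro hw i hi
    obtain ⟨hk, hw⟩ := List.forall_mem_cons.1 hw
    have := allBelow_spec (allBelow_spec h k hk) i hi
    simp only [Bool.and_eq_true, Nat.beq_eq, Nat.blt_eq] at this
    show fapp ft w (rowGet (ft.get k) i) = P.app w (P.img k i)
    rw [this.1]
    exact ih hw _ this.2

theorem Perms.fapp_act {P : PermData} {H : Type*} [Group H] (M : Perms P H) {ft : BTree}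
    (h : okFlat P ft = true) (w : List Nat) (hw : ∀ x ∈ w, x < P.g) (i : Fin P.n) :
    fapp ft w i = (M.act (M.val w) i : Nat) := by
  rw [fapp_eq h w hw i i.2, M.app_eq w hw i]

variable {P : PermData} {H : Type*} [Group H] (M : Perms P H) {ft : BTree}

theorem fapp_append (u w : List Nat) (i : Nat) : fapp ft (u ++ w) i = fapp ft w (fapp ft u i) := by
  induction u generalizing i with
  | nil => rfl
  | cons k u ih =>
    show fapp ft (u ++ w) (rowGet (ft.get k) i) = _
    rw [ih]
    rfl

theorem bapp_eq_ivw (w : List Nat) : ∀ i, bapp ft w i = fapp ft (ivw w) i := by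
  induction w with
  | nil => intro i; rfl
  | cons k w ih =>
    intro i
    show rowGet (ft.get (Nat.xor k 1)) (bapp ft w i) = _
    rw [ivw, fapp_append, ← ih]
    rfl

theorem Perms.bapp_act (h : okFlat P ft = true) (w : List Nat) (hw : ∀ x ∈ w, x < P.g)
    (i : Fin P.n) : bapp ft w i = (M.act (M.val w)⁻¹ i : Nat) := by
  rw [bapp_eq_ivw, M.fapp_act h _ (M.ivw_lt hw), M.val_ivw]

end CfsgLib.DCE
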