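import Cfsg.Agent.Lib.DCE.Eval
import Cfsg.Agent.Lib.DCE.Enum

/-!
Bounds for the numbers of fixed cosets of an element in each orbit of an enumeration.
-/

namespace CfsgLib.DCE

open CfsgLib.PresCert

/-- indices which add up to the whole index are exact -/
theorem index_exact {Q H : Type*} [Group Q] [Group H] {S : Setup} (N : Model S H Q)
    {fs : List Fact} {ls : List Live} (hls : ∀ L ∈ ls, S.okLive fs L = true)
    (hfs : ∀ n < fs.length, N.FactOK (Setup.fget fs n))
    (hbij : Function.Bijective (pointOf N hls hfs)) (m : Live → Nat)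
    (hm : ∀ L ∈ ls, (liveStab N fs L).index ≤ m L ∧ (liveStab N fs L).index ≠ 0)
    (hidx : N.f.range.index = (ls.map m).sum) (k : Fin ls.length) :
    (liveStab N fs ls[k]).index = m ls[k] := by
  haveI fin : ∀ k : Fin ls.length, Finite (H ⧸ liveStab N fs ls[k]) := fun k =>
    Nat.finite_of_card_ne_zero (hm _ (List.getElem_mem _)).2
  have e := Nat.card_congr (Equiv.ofBijective _ hbij)
  rw [Nat.card_sigma, ← Subgroup.index_eq_card, hidx,
    show (ls.map m).sum = ∑ k : Fin ls.length, m ls[k] by
      rw [← List.sum_ofFn]; congr 1; exact (List.ofFn_getElem_eq_map ls m).symm] at e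
  exact (Finset.sum_eq_sum_iff_of_le (fun i _ => (hm _ (List.getElem_mem _)).1)).1 e k
    (Finset.mem_univ _)

/-- fixed cosets of `U` through the number of conjugates of `a` in `U` -/
theorem card_fixed_le_of_count {H : Type*} [Group H] [Finite H] (U : Subgroup H) (a : H) {c d b : Nat}
    (hc : Nat.card (Subgroup.centralizer ({a} : Set H)) ≤ c) (p : H → Prop)
    (hp : ∀ h : H, h⁻¹ * a * h ∈ U → p (h⁻¹ * a * h)) (hd : Nat.card {s : U // p s} ≤ d)
    (hb : c * d ≤ b * Nat.card U) : Nat.card {x : H ⧸ U // a • x = x} ≤ b :=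
  Nat.le_of_mul_le_mul_right
    (((fixed_mul_card_le U a p hp).trans (Nat.mul_le_mul hc hd)).trans hb) Nat.card_pos

variable {P : PermData} {H : Type*} [Group H] (M : Perms P H)

include M in
/-- fixed cosets of the stabiliser of a point -/
theorem card_fixed_le_of_point [Finite H] (U : Subgroup H) (r : Fin P.n)
    (hU : ∀ h : H, h ∈ U ↔ M.act h r = r) (w R : List Nat) (hw : ∀ x ∈ w, x < P.g)
    (hR : ∀ q : Fin P.n, P.app w q = q → (q : Nat) ∈ R) (O : List Nat)
    (hO : ∀ h : H, (M.act h r : Nat) ∈ R → (M.act h r : Nat) ∈ O) :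
    Nat.card {x : H ⧸ U // M.val w • x = x} ≤ O.length := by
  classical
  let pt : H ⧸ U → Fin P.n := fun x => M.act x.out⁻¹ r
  have hinj : Function.Injective pt := by
    intro x y e
    have e' : M.act (x.out⁻¹ * y.out) r = r := by
      simp only [pt] at e
      rw [Perms.act_mul, e, ← Perms.act_mul, inv_mul_cancel, Perms.act_one]
    rw [← QuotientGroup.out_eq' x, ← QuotientGroup.out_eq' y]
    exact QuotientGroup.eq.2 ((hU _).2 e')
  have hfix : ∀ x : {x : H ⧸ U // M.val w • x = x}, (pt x.1 : Nat) ∈ O.toFinset := by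
    rintro ⟨x, hx⟩
    rw [List.mem_toFinset]
    refine hO _ (hR _ ?_)
    have hm : x.out⁻¹ * M.val w * x.out ∈ U := by
      rw [← QuotientGroup.out_eq' x, MulAction.Quotient.smul_mk, eq_comm, QuotientGroup.eq,
        smul_eq_mul, ← mul_assoc] at hx
      exact hx
    rw [M.app_eq w hw, Fin.val_inj]
    have e := (hU _).1 hm
    rw [Perms.act_mul, Perms.act_mul] at e
    have e2 := congrArg (M.act x.out⁻¹) e
    rwa [← Perms.act_mul, mul_inv_cancel, Perms.act_one] at e2
  have h := Nat.card_le_card_of_injective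
    (fun x : {x : H ⧸ U // M.val w • x = x} => (⟨_, hfix x⟩ : O.toFinset))
    fun a b e => Subtype.ext (hinj (Fin.ext (congrArg Subtype.val e :)))
  rw [Nat.card_eq_finsetCard] at h
  exact h.trans (List.toFinset_card_le _)

include M in
/-- words moving a point of the base are not of order dividing two -/
theorem sq_ne_one_of_moved {E : EnumData} {base : List Nat} (hS : E.okShape P = true)
    (hC : ∀ k < E.len, E.okFrom P base k 1 = true) {k b : Nat} (hk : k < E.len)
    (hb : b < base.length) (hbn : base.getD b 0 < P.n)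
    (h : P.app (E.word k) (E.im k b) ≠ base.getD b 0) :
    M.val (E.word k) * M.val (E.word k) ≠ 1 := by
  intro e
  refine h ?_
  have hlt : ∀ x ∈ E.word k, x < P.g := by
    have hS' := hS
    simp only [EnumData.okShape, Bool.and_eq_true, List.all_eq_true, Nat.blt_eq] at hS'
    exact wordAt_lt hS'.2 _ _ _
  rw [← act_word M hS hC hk hb hbn, M.app_eq _ hlt, ← Perms.act_mul, e, Perms.act_one]

end CfsgLib.DCE
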