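import Cfsg.Agent.Lib.PresCert.PermSound

/-!
Finitely presented groups given by numeric words, and faithful permutation representations read
off from tables. Letters `2 * k` and `2 * k + 1` stand for generator `k` and its inverse.
-/

namespace CfsgLib.DCE

open Equiv CfsgLib.PresCert

section Words

variable {Q R : Type*} [Group Q] [Group R] {m : ℕ}

/-- value of a letter -/
def lv (f : Fin m → Q) (x : Nat) : Q :=
  if h : x / 2 < m then (if x % 2 = 0 then f ⟨x / 2, h⟩ else (f ⟨x / 2, h⟩)⁻¹) else 1

/-- value of a word -/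
def wv (f : Fin m → Q) (w : List Nat) : Q := (w.map (lv f)).prod

theorem map_lv (φ : Q →* R) (f : Fin m → Q) (x : Nat) : φ (lv f x) = lv (fun k => φ (f k)) x := by
  unfold lv
  split_ifs <;> simp

theorem map_wv (φ : Q →* R) (f : Fin m → Q) (w : List Nat) :
    φ (wv f w) = wv (fun k => φ (f k)) w := by
  induction w with
  | nil => simp [wv]
  | cons x w ih =>
    simp only [wv, List.map_cons, List.prod_cons, map_mul, map_lv]
    exact congrArg _ ih

theorem lv_xor (f : Fin m → Q) (x : Nat) : lv f (Nat.xor x 1) = (lv f x)⁻¹ := by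
  have h0 : Nat.xor x 1 = x ^^^ 1 := rfl
  have hd : (x ^^^ 1) / 2 = x / 2 := by
    rw [← Nat.shiftRight_one, ← Nat.shiftRight_one, Nat.shiftRight_xor_distrib]; simp
  have hm : (x ^^^ 1) % 2 = 0 ↔ x % 2 ≠ 0 := by
    have := @Nat.xor_mod_two_eq_one x 1
    omega
  rw [h0]
  unfold lv
  by_cases h : x / 2 < m
  · have h' : (x ^^^ 1) / 2 < m := hd ▸ h
    rw [dif_pos h, dif_pos h']
    have e : (⟨(x ^^^ 1) / 2, h'⟩ : Fin m) = ⟨x / 2, h⟩ := Fin.ext hd
    rw [e]
    by_cases hx : x % 2 = 0
    · rw [if_pos hx, if_neg (by rw [hm]; simp [hx])]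
    · rw [if_neg hx, if_pos (hm.2 hx), inv_inv]
  · rw [dif_neg h, dif_neg (hd ▸ h), inv_one]

end Words

/-- the relators as elements of the free group -/
def relSet (m : ℕ) (rels : List (List Nat)) : Set (FreeGroup (Fin m)) :=
  {r | ∃ w ∈ rels, wv FreeGroup.of w = r}

/-- the group on `m` generators presented by numeric relators -/
abbrev Grp (m : ℕ) (rels : List (List Nat)) : Type := PresentedGroup (relSet m rels)

variable {m : ℕ} {rels : List (List Nat)}

/-- the generators -/
def Grp.gen (k : Fin m) : Grp m rels := PresentedGroup.of k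

/-- the homomorphism given by values satisfying the relators -/
noncomputable def Grp.lift {Q : Type*} [Group Q] (f : Fin m → Q) (h : ∀ w ∈ rels, wv f w = 1) :
    Grp m rels →* Q :=
  PresentedGroup.toGroup (f := f) (by
    rintro r ⟨w, hw, rfl⟩
    rw [map_wv]
    simpa using h w hw)

@[simp] theorem Grp.lift_gen {Q : Type*} [Group Q] (f : Fin m → Q) (h : ∀ w ∈ rels, wv f w = 1)
    (k : Fin m) : Grp.lift f h (Grp.gen k) = f k := by
  simp [Grp.lift, Grp.gen]

theorem Grp.wv_rel {w : List Nat} (hw : w ∈ rels) :
    wv (Grp.gen (m := m) (rels := rels)) w = 1 := by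
  have : PresentedGroup.mk (relSet m rels) (wv FreeGroup.of w) = 1 :=
    PresentedGroup.one_of_mem ⟨w, hw, rfl⟩
  rwa [map_wv] at this

theorem Grp.closure_gen :
    Subgroup.closure (Set.range (Grp.gen (m := m) (rels := rels))) = ⊤ :=
  PresentedGroup.closure_range_of _

/-- each letter and its inverse give inverse maps of the points -/
noncomputable def okPair (P : PermData) : Bool :=
  allBelow P.g fun k => allBelow P.n fun i =>
    let j := P.img k i
    Nat.blt j P.n && Nat.beq (P.img (Nat.xor k (nat_lit 1)) j) i

/-- the relators fix every point -/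
noncomputable def okRels (P : PermData) (rs : List (List Nat)) : Bool :=
  rs.all fun w => (w.all fun k => Nat.blt k P.g) && allBelow P.n fun i => Nat.beq (P.app w i) i

theorem okPair_spec {P : PermData} (h : okPair P = true) {k : Nat} (hk : k < P.g) (i : Fin P.n) :
    P.img k i < P.n ∧ P.img (k ^^^ 1) (P.img k i) = i := by
  have := allBelow_spec (allBelow_spec h k hk) (i : Nat) i.2
  simp only [Bool.and_eq_true, Nat.blt_eq, Nat.beq_eq] at this
  exact this

/-- A permutation representation of `H`, read off from tables: letter `x` moves the points by the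
inverse of the permutation of its value (so words act on the right). -/
structure Perms (P : PermData) (H : Type*) [Group H] where
  m : ℕ
  g_eq : P.g = 2 * m
  gen : Fin m → H
  π : H →* Perm (Fin P.n)
  img : ∀ x < P.g, ∀ i : Fin P.n, (((π (lv gen x))⁻¹ i : Fin P.n) : Nat) = P.img x i

namespace Perms

variable {P : PermData} {H : Type*} [Group H] (M : Perms P H)

/-- image of a point, acting on the right -/
def act (h : H) (i : Fin P.n) : Fin P.n := (M.π h)⁻¹ i

theorem act_mul (a b : H) (i : Fin P.n) : M.act (a * b) i = M.act b (M.act a i) := by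
  simp [act]

theorem act_one (i : Fin P.n) : M.act 1 i = i := by simp [act]

/-- value of a word -/
def val (w : List Nat) : H := wv M.gen w

theorem val_append (u w : List Nat) : M.val (u ++ w) = M.val u * M.val w := by
  simp [val, wv]

theorem app_eq : ∀ (w : List Nat), (∀ x ∈ w, x < P.g) → ∀ i : Fin P.n,
    P.app w i = (M.act (M.val w) i : Nat) := by
  intro w
  induction w with
  | nil => intro _ i; simp [PermData.app, val, wv, act]
  | cons x w ih =>
    intro hw i
    obtain ⟨hx, hw'⟩ := List.forall_mem_cons.1 hw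
    rw [PermData.app, ← M.img x hx i]
    refine (ih hw' _).trans ?_
    rw [show M.val (x :: w) = lv M.gen x * M.val w by simp [val, wv], act_mul]
    rfl

/-- the inverse word -/
noncomputable def _root_.CfsgLib.DCE.ivw : List Nat → List Nat
  | [] => []
  | x :: w => ivw w ++ [Nat.xor x 1]

theorem val_ivw (w : List Nat) : M.val (ivw w) = (M.val w)⁻¹ := by
  induction w with
  | nil => simp [ivw, val, wv]
  | cons x w ih =>
    rw [ivw, val_append, ih]
    simp only [val, wv, List.map_cons, List.map_nil, List.prod_cons, List.prod_nil, mul_one, lv_xor,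
      mul_inv_rev]

include M in
theorem ivw_lt {w : List Nat} (hw : ∀ x ∈ w, x < P.g) : ∀ x ∈ ivw w, x < P.g := by
  induction w with
  | nil => simp [ivw]
  | cons x w ih =>
    intro y hy
    simp only [ivw, List.mem_append, List.mem_singleton] at hy
    rcases hy with hy | rfl
    · exact ih (fun z hz => hw z (List.mem_cons_of_mem _ hz)) y hy
    · have := hw x (List.mem_cons_self ..)
      rw [M.g_eq] at this ⊢
      show x ^^^ 1 < 2 * M.m
      rcases Nat.mod_two_eq_zero_or_one x with h | h
      · have : x ^^^ 1 = x + 1 := by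
          obtain ⟨a, rfl⟩ : ∃ a, x = 2 * a := ⟨x / 2, by omega⟩
          simp [Nat.xor_one_of_even, parity_simps]
        omega
      · have : x ^^^ 1 = x - 1 := by
          obtain ⟨a, rfl⟩ : ∃ a, x = 2 * a + 1 := ⟨x / 2, by omega⟩
          simp [Nat.xor_one_of_odd, parity_simps]
        omega

end Perms

/-- the permutation of a generator -/
noncomputable def gperm {P : PermData} {m : ℕ} (hg : P.g = 2 * m) (h : okPair P = true)
    (k : Fin m) : Perm (Fin P.n) where
  toFun i := ⟨P.img (2 * k + 1) i, (okPair_spec h (by omega) i).1⟩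
  invFun i := ⟨P.img (2 * k) i, (okPair_spec h (by omega) i).1⟩
  left_inv i := by
    refine Fin.ext ?_
    have := (okPair_spec h (k := 2 * k + 1) (by omega) i).2
    rwa [show (2 * (k : Nat) + 1) ^^^ 1 = 2 * k by
      simp [Nat.xor_one_of_odd, parity_simps]] at this
  right_inv i := by
    refine Fin.ext ?_
    have := (okPair_spec h (k := 2 * k) (by omega) i).2
    rwa [show (2 * (k : Nat)) ^^^ 1 = 2 * k + 1 by
      simp [Nat.xor_one_of_even, parity_simps]] at this

theorem gperm_img {P : PermData} {m : ℕ} (hg : P.g = 2 * m) (h : okPair P = true) (x : Nat)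
    (hx : x < P.g) (i : Fin P.n) :
    (((lv (gperm hg h) x)⁻¹ i : Fin P.n) : Nat) = P.img x i := by
  unfold lv
  rw [dif_pos (show x / 2 < m by omega)]
  split_ifs with hp
  · show P.img (2 * (x / 2)) i = _
    rw [show 2 * (x / 2) = x by omega]
  · rw [inv_inv]
    show P.img (2 * (x / 2) + 1) i = _
    rw [show 2 * (x / 2) + 1 = x by omega]

theorem gperm_rels {P : PermData} {m : ℕ} (hg : P.g = 2 * m) (h : okPair P = true)
    {rs : List (List Nat)} (hr : okRels P rs = true) :
    ∀ w ∈ rs, wv (gperm hg h) w = 1 := by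
  intro w hw
  simp only [okRels, List.all_eq_true, Bool.and_eq_true, Nat.blt_eq] at hr
  obtain ⟨h1, h2⟩ := hr w hw
  have key : ∀ (w : List Nat), (∀ x ∈ w, x < P.g) → ∀ i : Fin P.n,
      P.app w i = (((wv (gperm hg h) w)⁻¹ i : Fin P.n) : Nat) := by
    intro w
    induction w with
    | nil => intro _ i; simp [PermData.app, wv]
    | cons x w ih =>
      intro hw i
      obtain ⟨hx, hw'⟩ := List.forall_mem_cons.1 hw
      rw [PermData.app, ← gperm_img hg h x hx i]
      refine (ih hw' _).trans ?_
      simp [wv]
  rw [← inv_eq_one]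
  refine Equiv.ext fun i => Fin.ext ?_
  rw [← key w h1 i, Nat.eq_of_beq_eq_true (allBelow_spec h2 i i.2)]
  rfl

/-- the representation of a presented group given by checked tables -/
noncomputable def Perms.ofGrp {P : PermData} (hg : P.g = 2 * m) (h : okPair P = true)
    (hr : okRels P rels = true) : Perms P (Grp m rels) where
  m := m
  g_eq := hg
  gen := Grp.gen
  π := Grp.lift (gperm hg h) (gperm_rels hg h hr)
  img x hx i := by
    rw [map_lv]
    simp only [Grp.lift_gen]
    exact gperm_img hg h x hx i

end CfsgLib.DCE
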