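import Cfsg.Agent.Lib.DCE.Check

/-!
Checking a living orbit in pieces, one range of points at a time.
-/

set_option autoImplicit false

namespace CfsgLib.DCE

open CfsgLib.PresCert

theorem allBin_of {n : Nat} {p : Nat → Bool} (h : ∀ i < n, p i = true) :
    ∀ k lo, allBin n p k lo = true := by
  intro k
  induction k with
  | zero =>
    intro lo
    rcases lt_or_ge lo n with hl | hl
    · cases hb : Nat.ble n lo <;> simp [allBin, hb, h lo hl]
    · simp [allBin, Nat.ble_eq_true_of_le hl]
  | succ k ih =>
    intro lo
    show (Bool.rec (Bool.rec false (allBin n p k (lo + Nat.shiftLeft 1 k)) (allBin n p k lo))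
      true (Nat.ble n lo) : Bool) = true
    cases Nat.ble n lo <;> simp [ih]

theorem allBelow_of {n : Nat} {p : Nat → Bool} (hn : n ≤ 16777216) (h : ∀ i < n, p i = true) :
    allBelow n p = true := by
  simp [allBelow, Nat.ble_eq_true_of_le hn, allBin_of h]

namespace Setup

variable (S : Setup)

/-- the condition on one point of the classes for one edge -/
noncomputable def okClassPt (fs : List Fact) (i e : Nat) (t : BTree) (c : Nat) : Bool :=
  let E := S.edge e
  let w := t.word c
  Nat.beq w (nat_lit 0) ||
    ((allBelow S.P.g fun x => !(Nat.beq (t.word (S.P.img x c)) (nat_lit 0))) &&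
      let f := Nat.land (Nat.shiftRight w (nat_lit 2)) (nat_lit 4095)
      let d := Nat.land (Nat.shiftRight w (nat_lit 14)) (nat_lit 65535)
      let F := fget fs f
      Nat.blt f fs.length && Nat.beq F.i i &&
        bif Nat.beq (Nat.land w (nat_lit 2)) (nat_lit 0) then
          Nat.beq F.ty (nat_lit 0) && Nat.beq (S.P.app (ivw F.p) c) d &&
            !(Nat.beq (t.word d) (nat_lit 0)) && Nat.blt d S.P.n &&
            Nat.blt (Nat.shiftRight (t.word d) (nat_lit 30)) (Nat.shiftRight w (nat_lit 30))
        else
          Nat.beq F.ty (nat_lit 1) && Nat.beq F.e e && Nat.beq (S.P.app (ivw F.r) E.pt) c)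

/-- the condition on a range of points -/
noncomputable def okClassPart (fs : List Fact) (i e : Nat) (t : BTree) (lo len : Nat) : Bool :=
  allBelow len fun j => S.okClassPt fs i e t (Nat.add lo j)

/-- every point of a range is in order -/
def ClassOK (fs : List Fact) (i e : Nat) (t : BTree) (lo hi : Nat) : Prop :=
  ∀ c, lo ≤ c → c < hi → S.okClassPt fs i e t c = true

variable {S} {fs : List Fact} {i e : Nat} {t : BTree}

theorem classOK_of_part {lo len : Nat} (h : S.okClassPart fs i e t lo len = true) :
    S.ClassOK fs i e t lo (lo + len) := by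
  intro c h1 h2
  have := allBelow_spec h (c - lo) (by omega)
  rwa [show Nat.add lo (c - lo) = c from Nat.add_sub_cancel' h1] at this

theorem ClassOK.join {a b c : Nat} (h : S.ClassOK fs i e t a b) (h' : S.ClassOK fs i e t b c) :
    S.ClassOK fs i e t a c := by
  intro d h1 h2
  rcases lt_or_ge d b with hd | hd
  · exact h d h1 hd
  · exact h' d hd h2

/-- the part of the check of a living orbit which does not run over the points -/
noncomputable def okLiveHead (S : Setup) (fs : List Fact) (L : Live) : Bool :=
  Nat.ble L.i S.defs.length &&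
    (L.stabs.all fun f => Nat.blt f fs.length && Nat.beq (fget fs f).ty (nat_lit 0) &&
      Nat.beq (fget fs f).i L.i) &&
    Nat.beq L.cls.length S.edges.length &&
    allBelow S.edges.length fun e =>
      !(Nat.beq ((L.cls.getD e (.leaf (nat_lit 0))).word (S.edge e).pt) (nat_lit 0))

theorem okLive_of_parts {L : Live} (hh : okLiveHead S fs L = true) (hn : S.P.n ≤ 16777216)
    (hp : ∀ e < S.edges.length, S.ClassOK fs L.i e (L.cls.getD e (.leaf (nat_lit 0))) 0 S.P.n) :
    S.okLive fs L = true := by
  simp only [okLiveHead, Bool.and_eq_true] at hh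
  obtain ⟨h1, h2⟩ := hh
  simp only [okLive, Bool.and_eq_true]
  refine ⟨h1, allBelow_of ?_ fun e he => ?_⟩
  · cases hb : Nat.ble S.edges.length 16777216 with
    | false => simp [allBelow, hb] at h2
    | true => exact Nat.le_of_ble_eq_true hb
  · simp only [okClass, Bool.and_eq_true]
    exact ⟨allBelow_spec h2 e he, allBelow_of hn fun c hc => hp e he c (Nat.zero_le c) hc⟩

end Setup

end CfsgLib.DCE
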