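import Cfsg.Agent.Lib.DCE.Count

/-!
Orders from orbits along a base: faithfulness, stabilisers of points, subgroups given by words.
-/

namespace CfsgLib.DCE

open CfsgLib.PresCert Equiv

/-- The bound from orbit lengths, keeping the pointwise stabiliser of all the base points. -/
theorem levels_bound' {D : PermData} (I : PermData.Interp D) (hw : D.okWords D.g D.words = true) :
    ∀ (ls : List Level) (bs : List Nat), D.okLevels bs ls = true →
      (ls.map Level.len).prod * Nat.card (PermData.fixing I ((ls.map Level.base).reverse ++ bs)) ≤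
        Nat.card (PermData.fixing I bs)
  | [], bs, _ => by simp
  | L :: ls, bs, h => by
    simp only [PermData.okLevels, PermData.okOrbit, Bool.and_eq_true, List.all_eq_true, Nat.blt_eq,
      Nat.beq_eq] at h
    obtain ⟨⟨⟨⟨⟨⟨⟨⟨hlen, horb0⟩, hbase⟩, hpos0⟩, hgens⟩, horb'⟩, hfix⟩, -⟩, hrest⟩ := h
    have horb := fun p hp => allBelow_spec horb' p hp
    simp only [Bool.and_eq_true, Bool.or_eq_true, Nat.blt_eq, Nat.beq_eq] at horb
    have ih := levels_bound' I hw ls _ hrest
    let b : Fin D.n := ⟨L.base, hbase⟩
    let K := PermData.fixing I bs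
    have key : ∀ p, p < L.len → ∃ σ ∈ K,
        ((σ b : Fin D.n) : Nat) = Nat.land (L.orb.word p) 65535 := by
      intro p
      induction p using Nat.strong_induction_on with
      | _ p ihp =>
        intro hp
        obtain ⟨-, hp0 | ⟨⟨hpar, hk⟩, himg⟩⟩ := horb p hp
        · subst hp0
          exact ⟨1, one_mem _, by rw [horb0]; rfl⟩
        obtain ⟨σ, hσ, eσ⟩ := ihp _ hpar (hpar.trans hp)
        have hmem : L.gens.getD (Nat.shiftRight (L.orb.word p) 32) 0 ∈ L.gens := by
          rw [List.getD_eq_getElem?_getD, List.getElem?_eq_getElem hk]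
          exact List.getElem_mem hk
        obtain ⟨τ, hτ, eτ⟩ := PermData.elem_exists I hw _ (hgens _ hmem)
        have hτK : τ ∈ K := ⟨hτ, fun i hi => Fin.ext (by rw [eτ, hfix _ hmem i hi])⟩
        exact ⟨τ * σ, mul_mem hτK hσ, by rw [Perm.mul_apply, eτ, eσ, himg]⟩
    choose σ hσ eσ using key
    let φ : Fin L.len × PermData.fixing I (L.base :: bs) → K := fun q =>
      ⟨σ q.1 q.1.2 * (q.2 : Perm (Fin D.n)), mul_mem (hσ _ _)
        ⟨q.2.2.1, fun i hi => q.2.2.2 i (List.mem_cons_of_mem _ hi)⟩⟩
    have hφ : Function.Injective φ := by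
      rintro ⟨p, τ⟩ ⟨p', τ'⟩ h
      have h' : σ p p.2 * (τ : Perm (Fin D.n)) = σ p' p'.2 * (τ' : Perm (Fin D.n)) :=
        congrArg Subtype.val h
      have hb : (τ : Perm (Fin D.n)) b = b := τ.2.2 b (List.mem_cons_self ..)
      have hb' : (τ' : Perm (Fin D.n)) b = b := τ'.2.2 b (List.mem_cons_self ..)
      have hp : (p : Nat) = p' := by
        have e := congrArg (fun π : Perm (Fin D.n) => ((π b : Fin D.n) : Nat)) h'
        simp only [Perm.mul_apply, hb, hb', eσ] at e
        rw [← (horb p p.2).1.2, ← (horb p' p'.2).1.2, e]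
      obtain rfl : p = p' := Fin.ext hp
      exact Prod.ext rfl (Subtype.ext (mul_left_cancel h'))
    have hc := Nat.card_le_card_of_injective φ hφ
    rw [Nat.card_prod, Nat.card_eq_fintype_card, Fintype.card_fin] at hc
    have ih' := le_trans (Nat.mul_le_mul_left L.len ih) hc
    simpa [mul_assoc, List.append_assoc] using ih'

variable {P : PermData} {H : Type*} [Group H] (M : Perms P H)

/-- the tables as permutations -/
noncomputable def Perms.interp : PermData.Interp P :=
  ⟨fun x => (M.π (lv M.gen x))⁻¹, M.img⟩

theorem Perms.grp_le : PermData.grp M.interp ≤ M.π.range := by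
  rw [PermData.grp, Subgroup.closure_le]
  rintro _ ⟨x, -, rfl⟩
  exact ⟨(lv M.gen x)⁻¹, by simp [Perms.interp]⟩

theorem Perms.range_le_grp (hg : Subgroup.closure (Set.range M.gen) = ⊤) (h : H) :
    M.π h ∈ PermData.grp M.interp := by
  have hh : h ∈ Subgroup.closure (Set.range M.gen) := by rw [hg]; trivial
  induction hh using Subgroup.closure_induction with
  | mem x hx =>
    obtain ⟨k, rfl⟩ := hx
    refine Subgroup.subset_closure ⟨2 * k + 1, by rw [M.g_eq]; omega, ?_⟩
    simp [Perms.interp, lv, Nat.add_mod, show (2 * (k : Nat) + 1) / 2 = k by omega]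
  | one => rw [map_one]; exact one_mem _
  | mul a b _ _ iha ihb => rw [map_mul]; exact mul_mem iha ihb
  | inv a _ iha => rw [map_inv]; exact inv_mem iha

/-- If `H` is no larger than the bound from the orbits then it acts faithfully, a base being
formed by the base points of the levels. -/
theorem Perms.faithful (hw : P.okWords P.g P.words = true) (ls : List Level)
    (hl : P.okLevels [] ls = true) [Finite H] (hH : Nat.card H ≤ (ls.map Level.len).prod) :
    (∀ h : H, (∀ i : Fin P.n, (i : Nat) ∈ ls.map Level.base → M.act h i = i) → h = 1) ∧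
      Nat.card H = (ls.map Level.len).prod := by
  have h1 := levels_bound' M.interp hw ls [] hl
  have h2 : Nat.card (PermData.fixing M.interp []) ≤ Nat.card (PermData.grp M.interp) :=
    Nat.card_le_card_of_injective (fun σ => (⟨σ, σ.2.1⟩ : PermData.grp M.interp))
      fun _ _ h => Subtype.ext (congrArg Subtype.val h :)
  have h3 : Nat.card (PermData.grp M.interp) ≤ Nat.card M.π.range :=
    Subgroup.card_le_of_le M.grp_le
  have h4 : Nat.card M.π.range ≤ Nat.card H :=
    Nat.card_le_card_of_surjective _ M.π.rangeRestrict_surjective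
  have hpos : 0 < Nat.card (PermData.fixing M.interp ((ls.map Level.base).reverse ++ [])) :=
    Nat.card_pos
  have hp : (ls.map Level.len).prod ≤ (ls.map Level.len).prod *
      Nat.card (PermData.fixing M.interp ((ls.map Level.base).reverse ++ [])) :=
    Nat.le_mul_of_pos_right _ hpos
  have heq : Nat.card H = (ls.map Level.len).prod := by omega
  have hpos' : 0 < (ls.map Level.len).prod := heq ▸ Nat.card_pos
  have hfix : Nat.card (PermData.fixing M.interp ((ls.map Level.base).reverse ++ [])) = 1 := by
    refine le_antisymm (Nat.le_of_mul_le_mul_left ?_ hpos') hpos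
    rw [mul_one]; omega
  have hgr : PermData.grp M.interp = M.π.range :=
    Subgroup.eq_of_le_of_card_ge M.grp_le (by omega)
  have hinj : Function.Injective M.π := by
    have : Function.Bijective M.π.rangeRestrict :=
      (Nat.bijective_iff_surjective_and_card _).2 ⟨M.π.rangeRestrict_surjective, by omega⟩
    exact fun a b h => this.1 (Subtype.ext h)
  refine ⟨fun h hh => hinj ?_, heq⟩
  rw [map_one]
  have hmem : M.π h ∈ PermData.fixing M.interp ((ls.map Level.base).reverse ++ []) := by
    refine ⟨hgr ▸ ⟨h, rfl⟩, fun i hi => ?_⟩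
    have := hh i (by simpa using hi)
    rw [Perms.act, Equiv.Perm.inv_eq_iff_eq] at this
    exact this.symm
  have : Subsingleton (PermData.fixing M.interp ((ls.map Level.base).reverse ++ [])) :=
    (Nat.card_eq_one_iff_unique.1 hfix).1
  exact congrArg Subtype.val
    (Subsingleton.elim (⟨M.π h, hmem⟩ : PermData.fixing M.interp _) ⟨1, one_mem _⟩)

/-- the tables of the listed elements are those of the listed words -/
noncomputable def okTabs (P : PermData) (ws : List (List Nat)) (tab : BTree) : Bool :=
  (ws.all fun w => w.all fun x => Nat.blt x P.g) && allBelow ws.length fun k =>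
    allBelow P.n fun i =>
      Nat.beq (P.app (ws.getD k []) i) (tab.half (Nat.add (Nat.mul k P.n) i))

/-- the subgroup generated by words -/
def Perms.sub (ws : List (List Nat)) : Subgroup H :=
  Subgroup.closure {h | ∃ w ∈ ws, M.val w = h}

/-- A lower bound for the order of a subgroup given by words. -/
theorem Perms.sub_card [Finite H] {ws : List (List Nat)} {tab : BTree} {ex : List (List Nat)}
    (ht : okTabs P ws tab = true)
    (hw : (PermData.mk P.n ws.length tab ex).okWords ws.length ex = true)
    (ls : List Level) (hl : (PermData.mk P.n ws.length tab ex).okLevels [] ls = true) :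
    (ls.map Level.len).prod ≤ Nat.card (M.sub ws) := by
  simp only [okTabs, Bool.and_eq_true, List.all_eq_true, Nat.blt_eq] at ht
  refine PermData.le_card_of_hom (D := PermData.mk P.n ws.length tab ex) (M.sub ws) M.π
    (fun k hk => ?_) hw ls hl
  have hk' : k < ws.length := hk
  refine ⟨(M.val ws[k])⁻¹, inv_mem (Subgroup.subset_closure ⟨_, List.getElem_mem hk', rfl⟩),
    fun i => ?_⟩
  have := allBelow_spec (allBelow_spec ht.2 k hk') (i : Nat) i.2
  simp only [Nat.beq_eq, List.getD_eq_getElem?_getD, List.getElem?_eq_getElem hk',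
    Option.getD_some] at this
  rw [M.app_eq _ (ht.1 _ (List.getElem_mem hk'))] at this
  rw [map_inv]
  exact this

/-- The stabiliser of a point is generated by the given words, by counting. -/
theorem Perms.stab_eq [Finite H] {n : ℕ} (hn : Nat.card H = n) (hw : P.okWords P.g P.words = true)
    (hinj : Function.Injective M.π) (hg : Subgroup.closure (Set.range M.gen) = ⊤) (L : Level) (hl : P.okLevels [] [L] = true)
    {ws : List (List Nat)} (hfix : (ws.all fun w => (w.all fun x => Nat.blt x P.g) &&
      Nat.beq (P.app w L.base) L.base) = true) {v : ℕ} (hv : v ≤ Nat.card (M.sub ws))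
    (hcount : n ≤ L.len * v) (h : H)
    (hh : ∀ i : Fin P.n, (i : Nat) = L.base → M.act h i = i) : h ∈ M.sub ws := by
  simp only [List.all_eq_true, Bool.and_eq_true, Nat.blt_eq, Nat.beq_eq] at hfix
  let St : Subgroup H :=
    { carrier := {h | ∀ i : Fin P.n, (i : Nat) = L.base → M.act h i = i}
      one_mem' := fun i _ => M.act_one i
      mul_mem' := fun {a b} ha hb i hi => by rw [M.act_mul, ha i hi, hb i hi]
      inv_mem' := fun {a} ha i hi => by
        conv_lhs => rw [← ha i hi]
        rw [← M.act_mul, mul_inv_cancel, M.act_one] }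
  have hle : M.sub ws ≤ St := by
    rw [Perms.sub, Subgroup.closure_le]
    rintro _ ⟨w, hw', rfl⟩ i hi
    obtain ⟨h1, h2⟩ := hfix w hw'
    refine Fin.ext ?_
    rw [← M.app_eq w h1 i, hi]
    exact h2
  have h1 := levels_bound' M.interp hw [L] [] hl
  simp only [List.map_cons, List.map_nil, List.prod_cons, List.prod_nil, mul_one,
    List.reverse_singleton, List.append_nil] at h1
  have h2 : Nat.card (PermData.fixing M.interp []) ≤ Nat.card H :=
    (Nat.card_le_card_of_injective
      (fun σ : PermData.fixing M.interp [] => (⟨σ, M.grp_le σ.2.1⟩ : M.π.range))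
      fun _ _ h => Subtype.ext (congrArg Subtype.val h :)).trans
      (Nat.card_le_card_of_surjective _ M.π.rangeRestrict_surjective)
  have h3 : Nat.card St ≤ Nat.card (PermData.fixing M.interp [L.base]) := by
    refine Nat.card_le_card_of_injective (fun s => ⟨M.π (s : H), ?_, fun i hi => ?_⟩)
      fun a b h => Subtype.ext (hinj (congrArg Subtype.val h :))
    · exact M.range_le_grp hg s
    · have := s.2 i (by simpa using hi)
      rw [Perms.act, Equiv.Perm.inv_eq_iff_eq] at this
      exact this.symm
  have hlen : 0 < L.len := by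
    by_contra h0
    have : n = 0 := by have : L.len = 0 := by omega
                       rw [this, Nat.zero_mul] at hcount; omega
    exact (Nat.card_pos (α := H)).ne' (hn.trans this)
  have heq : M.sub ws = St := by
    refine Subgroup.eq_of_le_of_card_ge hle (Nat.le_of_mul_le_mul_left ?_ hlen)
    calc L.len * Nat.card St ≤ L.len * Nat.card (PermData.fixing M.interp [L.base]) :=
          Nat.mul_le_mul_left _ h3
      _ ≤ Nat.card (PermData.fixing M.interp []) := h1
      _ ≤ n := hn ▸ h2
      _ ≤ L.len * v := hcount
      _ ≤ L.len * Nat.card (M.sub ws) := Nat.mul_le_mul_left _ hv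
  rw [heq]
  exact hh

end CfsgLib.DCE
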