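import Cfsg.Agent.Lib.DCE.Check

/-!
Soundness of the checker for double coset enumerations.
-/

namespace CfsgLib.DCE

open CfsgLib.PresCert

/-- The meaning of a setup in a group `Q`. -/
structure Model (S : Setup) (H Q : Type*) [Group H] [Group Q] where
  M : Perms S.P H
  inj : ∀ h : H, (∀ i : Fin S.P.n, (i : Nat) ∈ S.base → M.act h i = i) → h = 1
  f : H →* Q
  T : Nat → Q
  comm : ∀ e < S.edges.length, ∀ k < (S.edge e).src.length,
    f (M.val ((S.edge e).src.getD k [])) * T e = T e * f (M.val ((S.edge e).img.getD k []))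
  gen' : Nat → Q
  gen'_lt : ∀ x < S.P.g, gen' x = f (M.val [x])
  gen'_let : ∀ x, S.P.g ≤ x → x < S.P.g + S.lets.length →
    gen' x = (f (M.val (S.letE x).2))⁻¹ * T (S.letE x).1 * f (M.val (S.letE x).2)
  gen'_inv : ∀ x < S.P.g + S.lets.length, gen' (S.linv.getD x 0) = (gen' x)⁻¹
  rels_eq : ∀ r ∈ S.rels, (r.map gen').prod = 1
  gen_top : Subgroup.closure (Set.range M.gen) = ⊤
  top : Subgroup.closure (Set.range f ∪ {q | ∃ e < S.edges.length, T e = q}) = ⊤

variable {S : Setup} {H Q : Type*} [Group H] [Group Q] (N : Model S H Q)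

/-- the image of a word -/
def Model.wq (w : List Nat) : Q := N.f (N.M.val w)

theorem Model.wq_append (u w : List Nat) : N.wq (u ++ w) = N.wq u * N.wq w := by
  simp [Model.wq, Perms.val_append]

theorem Model.wq_ivw (w : List Nat) : N.wq (ivw w) = (N.wq w)⁻¹ := by
  simp [Model.wq, Perms.val_ivw]

theorem Model.wq_nil : N.wq [] = 1 := by simp [Model.wq, Perms.val, wv]

/-- representative of an orbit -/
noncomputable def Model.g : Nat → Q
  | 0 => 1
  | j + 1 =>
    if _h : (S.defs.getD j (0, 0, [])).1 ≤ j then
      Model.g (S.defs.getD j (0, 0, [])).1 * N.wq (S.defs.getD j (0, 0, [])).2.2 *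
        N.T (S.defs.getD j (0, 0, [])).2.1
    else 1
  decreasing_by omega

/-- the value of a state -/
noncomputable def Model.sv (s : St) : Q := N.wq s.v * N.g s.i * N.wq s.k

/-- the meaning of a fact -/
def Model.FactOK (F : Fact) : Prop :=
  S.okShape F = true ∧
    (F.ty = 0 → N.g F.i * N.wq F.p = N.wq F.q * N.g F.i) ∧
    (F.ty = 1 → N.g F.i * N.wq F.r * N.T F.e = N.wq F.p * N.g F.j * N.wq F.q) ∧
    (F.ty = 2 → N.g F.i = N.wq F.p * N.g F.j * N.wq F.q)

/-- the letters of a state lie in `H` -/
def StOK (S : Setup) (s : St) : Prop :=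
  (∀ x ∈ s.v, x < S.P.g) ∧ (∀ x ∈ s.k, x < S.P.g)

theorem okW_spec {w : List Nat} (h : S.okW w = true) : ∀ x ∈ w, x < S.P.g := by
  simpa [Setup.okW] using h

theorem okW_of {w : List Nat} (h : ∀ x ∈ w, x < S.P.g) : S.okW w = true := by
  simpa [Setup.okW] using h

include N in
theorem same_val {u w : List Nat} (hu : ∀ x ∈ u, x < S.P.g) (hw : ∀ x ∈ w, x < S.P.g)
    (h : S.same u w = true) : N.M.val u = N.M.val w := by
  simp only [Setup.same, List.all_eq_true, Nat.beq_eq] at h
  have key : N.M.val u * (N.M.val w)⁻¹ = 1 := N.inj _ fun i hi => by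
    have := h _ hi
    rw [N.M.app_eq u hu, N.M.app_eq w hw] at this
    rw [Perms.act_mul, show N.M.act (N.M.val u) i = N.M.act (N.M.val w) i from Fin.ext this,
      ← Perms.act_mul, mul_inv_cancel, Perms.act_one]
  exact mul_inv_eq_one.1 key

include N in
theorem same_wq {u w : List Nat} (hu : ∀ x ∈ u, x < S.P.g) (hw : ∀ x ∈ w, x < S.P.g)
    (h : S.same u w = true) : N.wq u = N.wq w := congrArg N.f (same_val N hu hw h)

theorem srcImg_lt (h : S.okSetup = true) (e : Nat) (wu : List Nat) :
    (∀ x ∈ S.srcW e wu, x < S.P.g) ∧ (∀ x ∈ S.imgW e wu, x < S.P.g) := by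
  simp only [Setup.okSetup, Bool.and_eq_true, List.all_eq_true] at h
  obtain ⟨⟨⟨⟨⟨⟨-, hE⟩, -⟩, -⟩, -⟩, -⟩, -⟩ := h
  constructor <;> intro x hx <;>
    simp only [Setup.srcW, Setup.imgW, List.mem_flatMap] at hx <;>
    obtain ⟨k, -, hx⟩ := hx <;>
    simp only [Setup.edge, List.getD_eq_getElem?_getD] at hx <;>
    cases he : S.edges[e]? with
    | none => simp [he] at hx
    | some E =>
      simp only [he, Option.getD_some] at hx
      obtain ⟨⟨⟨-, h1⟩, h2⟩, -⟩ := hE E (List.mem_of_getElem? he)
      first
        | (cases hk : E.src[k]? with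
           | none => simp [hk] at hx
           | some w => simp only [hk, Option.getD_some] at hx; exact okW_spec (h1 w (List.mem_of_getElem? hk)) x hx)
        | (cases hk : E.img[k]? with
           | none => simp [hk] at hx
           | some w => simp only [hk, Option.getD_some] at hx; exact okW_spec (h2 w (List.mem_of_getElem? hk)) x hx)

theorem letW_lt (h : S.okSetup = true) (l : Nat) : ∀ x ∈ (S.letE l).2, x < S.P.g := by
  simp only [Setup.okSetup, Bool.and_eq_true, List.all_eq_true] at h
  obtain ⟨⟨⟨⟨⟨-, hL⟩, -⟩, -⟩, -⟩, -⟩ := h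
  simp only [Setup.letE, List.getD_eq_getElem?_getD]
  cases hl : S.lets[l - S.P.g]? with
  | none => simp
  | some L =>
    simp only [Option.getD_some]
    exact okW_spec (hL L (List.mem_of_getElem? hl)).2

theorem letE_lt (h : S.okSetup = true) {l : Nat} (h1 : S.P.g ≤ l)
    (h2 : l < S.P.g + S.lets.length) : (S.letE l).1 < S.edges.length := by
  simp only [Setup.okSetup, Bool.and_eq_true, List.all_eq_true, Nat.blt_eq] at h
  obtain ⟨⟨⟨⟨⟨-, hL⟩, -⟩, -⟩, -⟩, -⟩ := h
  rw [Setup.letE, List.getD_eq_getElem?_getD, List.getElem?_eq_getElem (by omega)]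
  exact (hL _ (List.getElem_mem _)).1

include N in
theorem comm_word (e : Nat) (he : e < S.edges.length) : ∀ (wu : List Nat),
    (∀ x ∈ wu, x < (S.edge e).src.length) →
    N.wq (S.srcW e wu) * N.T e = N.T e * N.wq (S.imgW e wu) := by
  intro wu
  induction wu with
  | nil => simp [Setup.srcW, Setup.imgW, Model.wq_nil]
  | cons x wu ih =>
    intro h
    obtain ⟨hx, h'⟩ := List.forall_mem_cons.1 h
    simp only [Setup.srcW, Setup.imgW, List.flatMap_cons, Model.wq_append] at ih ⊢
    rw [mul_assoc, ih h', ← mul_assoc]
    simp only [Model.wq]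
    rw [N.comm e he x hx, mul_assoc]

/-- passing an edge -/
theorem edge_move {gi gj r T su iu p q v k c : Q} (hk : k * c⁻¹ = r * su)
    (hc : su * T = T * iu) (hF : gi * r * T = p * gj * q) :
    v * gi * k * (c⁻¹ * T * c) = v * p * gj * (q * (iu * c)) := by
  calc v * gi * k * (c⁻¹ * T * c) = v * gi * (k * c⁻¹) * T * c := by group
    _ = v * (gi * r) * (su * T) * c := by rw [hk]; group
    _ = v * (gi * r * T) * (iu * c) := by rw [hc]; group
    _ = _ := by rw [hF]; group

include N in
theorem run_sound (hS : S.okSetup = true) {fs : List Fact} {n : Nat}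
    (hfs : ∀ f < n, N.FactOK (Setup.fget fs f)) :
    ∀ (st : List Step) (ls : List Nat) (s t : St), StOK S s →
      S.run fs n st ls s = some t → StOK S t ∧ N.sv s * (ls.map N.gen').prod = N.sv t := by
  intro st
  induction st with
  | nil =>
    intro ls s t hs h
    simp only [Setup.run] at h
    split at h
    · next hl => cases h; subst hl; simp [hs]
    · cases h
  | cons a st ih =>
    intro ls s t hs h
    obtain ⟨hv, hk⟩ := hs
    cases a with
    | lett x =>
      cases ls with
      | nil => simp [Setup.run] at h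
      | cons l ls =>
        simp only [Setup.run] at h
        split at h
        · next hx =>
          obtain ⟨rfl, hx⟩ := hx
          have hk' : ∀ y ∈ s.k ++ [x], y < S.P.g := by
            simpa [or_imp, forall_and] using And.intro hk hx
          obtain ⟨h1, h2⟩ := ih ls ⟨s.v, s.i, s.k ++ [x]⟩ t ⟨hv, hk'⟩ h
          refine ⟨h1, ?_⟩
          rw [← h2]
          simp only [Model.sv, List.map_cons, List.prod_cons, Model.wq_append, N.gen'_lt x hx]
          simp only [Model.wq, mul_assoc]
        · cases h
    | stab f fwd =>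
      simp only [Setup.run] at h
      split at h
      · next hf =>
        obtain ⟨hf, hty, hi⟩ := hf
        obtain ⟨hsh, h0, -, -⟩ := hfs f hf
        simp only [Setup.okShape, Bool.and_eq_true] at hsh
        obtain ⟨⟨⟨-, hp⟩, hq⟩, -⟩ := hsh
        have e := h0 hty
        rw [hi] at e
        have hp' := okW_spec hp
        have hq' := okW_spec hq
        cases fwd with
        | true =>
          simp only [if_true] at h
          obtain ⟨h1, h2⟩ := ih ls _ t
            ⟨by simp only [List.mem_append]; rintro x (hx | hx) <;> [exact hv x hx; exact hq' x hx],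
             by simp only [List.mem_append]; rintro x (hx | hx) <;> [exact N.M.ivw_lt hp' x hx; exact hk x hx]⟩ h
          refine ⟨h1, ?_⟩
          rw [← h2]
          simp only [Model.sv, Model.wq_append, Model.wq_ivw]
          have e' : N.g s.i = N.wq (Setup.fget fs f).q * N.g s.i * (N.wq (Setup.fget fs f).p)⁻¹ := by
            rw [← e]; group
          conv_lhs => rw [e']
          group
        | false =>
          simp only [Bool.false_eq_true, if_false] at h
          obtain ⟨h1, h2⟩ := ih ls _ t
            ⟨by simp only [List.mem_append]; rintro x (hx | hx) <;> [exact hv x hx; exact N.M.ivw_lt hq' x hx],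
             by simp only [List.mem_append]; rintro x (hx | hx) <;> [exact hp' x hx; exact hk x hx]⟩ h
          refine ⟨h1, ?_⟩
          rw [← h2]
          simp only [Model.sv, Model.wq_append, Model.wq_ivw]
          have e' : N.g s.i = (N.wq (Setup.fget fs f).q)⁻¹ * (N.g s.i * N.wq (Setup.fget fs f).p) := by
            rw [e]; group
          conv_lhs => rw [e']
          group
      · cases h
    | edge f wu =>
      cases ls with
      | nil => simp [Setup.run] at h
      | cons l ls =>
        simp only [Setup.run] at h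
        split at h
        · next hc =>
          obtain ⟨hf, hty, hi, hl1, hl2, he, hwu, hsame⟩ := hc
          obtain ⟨hsh, -, h1', -⟩ := hfs f hf
          simp only [Setup.okShape, Bool.and_eq_true] at hsh
          obtain ⟨⟨⟨-, hp⟩, hq⟩, hr⟩ := hsh
          have e := h1' hty
          rw [hi, he] at e
          simp only [List.all_eq_true, Nat.blt_eq] at hwu
          obtain ⟨hsrc, himg⟩ := srcImg_lt hS (S.letE l).1 wu
          have hc := letW_lt hS l
          have hsame' := same_wq N
            (by simp only [List.mem_append]; rintro x (hx | hx) <;> [exact hk x hx; exact N.M.ivw_lt hc x hx])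
            (by simp only [List.mem_append]; rintro x (hx | hx) <;> [exact okW_spec hr x hx; exact hsrc x hx]) hsame
          simp only [Model.wq_append, Model.wq_ivw] at hsame'
          obtain ⟨g1, g2⟩ := ih ls _ t
            ⟨by simp only [List.mem_append]; rintro x (hx | hx) <;> [exact hv x hx; exact okW_spec hp x hx],
             by simp only [List.mem_append]; rintro x (hx | hx | hx) <;>
               [exact okW_spec hq x hx; exact himg x hx; exact hc x hx]⟩ h
          refine ⟨g1, ?_⟩
          rw [← g2, List.map_cons, List.prod_cons, ← mul_assoc]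
          congr 1
          simp only [Model.sv, Model.wq_append, N.gen'_let l hl1 hl2]
          exact edge_move hsame' (comm_word N _ (letE_lt hS hl1 hl2) wu hwu) e
        · cases h
    | coin f =>
      simp only [Setup.run] at h
      split at h
      · next hc =>
        obtain ⟨hf, hty, hi⟩ := hc
        obtain ⟨hsh, -, -, h2'⟩ := hfs f hf
        simp only [Setup.okShape, Bool.and_eq_true] at hsh
        obtain ⟨⟨⟨-, hp⟩, hq⟩, -⟩ := hsh
        have e := h2' hty
        rw [hi] at e
        obtain ⟨g1, g2⟩ := ih ls _ t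
          ⟨by simp only [List.mem_append]; rintro x (hx | hx) <;> [exact hv x hx; exact okW_spec hp x hx],
           by simp only [List.mem_append]; rintro x (hx | hx) <;> [exact okW_spec hq x hx; exact hk x hx]⟩ h
        refine ⟨g1, ?_⟩
        rw [← g2]
        simp only [Model.sv, Model.wq_append, e]
        group
      · cases h

end CfsgLib.DCE
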