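import Cfsg.Agent.Lib.DCE.Order

/-!
Bridging the checked word lists to the stabilisers used by the index bound.
-/

namespace CfsgLib.DCE

open CfsgLib.PresCert

/-- every word of `ws` is one of `vs` or the inverse of one -/
noncomputable def okPairs (ws vs : List (List Nat)) : Bool :=
  ws.all fun w => vs.any fun v => w == v || w == ivw v

variable {P : PermData} {H : Type*} [Group H] (M : Perms P H)

theorem Perms.sub_le_of_pairs {ws vs : List (List Nat)} (h : okPairs ws vs = true) :
    M.sub ws ≤ Subgroup.closure {u | ∃ k < vs.length, M.val (vs.getD k []) = u} := by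
  rw [Perms.sub, Subgroup.closure_le]
  rintro _ ⟨w, hw, rfl⟩
  simp only [okPairs, List.all_eq_true, List.any_eq_true, Bool.or_eq_true, beq_iff_eq] at h
  obtain ⟨v, hv, e⟩ := h w hw
  obtain ⟨k, hk, rfl⟩ := List.getElem_of_mem hv
  have hmem : M.val vs[k] ∈
      Subgroup.closure {u | ∃ k < vs.length, M.val (vs.getD k []) = u} :=
    Subgroup.subset_closure ⟨k, hk, by simp [List.getD_eq_getElem?_getD, hk]⟩
  rcases e with rfl | rfl
  · exact hmem
  · rw [M.val_ivw]; exact inv_mem hmem

variable {S : Setup} {Q : Type*} [Group Q] (N : Model S H Q)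

theorem Model.stabWords_le {fs : List Fact} {L : Live} {ws : List (List Nat)}
    (h : okPairs ws (L.stabs.map fun f => (Setup.fget fs f).p) = true) :
    N.M.sub ws ≤ liveStab N fs L := by
  refine (N.M.sub_le_of_pairs h).trans ((Subgroup.closure_le _).2 ?_)
  rintro _ ⟨k, hk, rfl⟩
  rw [List.length_map] at hk
  refine Subgroup.subset_closure ⟨L.stabs[k], List.getElem_mem hk, ?_⟩
  simp [List.getD_eq_getElem?_getD, hk]

/-- the index of a stabiliser from a lower bound for its order -/
theorem Model.stab_index [Finite H] {fs : List Fact} {L : Live} {ws : List (List Nat)}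
    (h : okPairs ws (L.stabs.map fun f => (Setup.fget fs f).p) = true) {lb m : ℕ}
    (hlb : lb ≤ Nat.card (N.M.sub ws)) (hm : Nat.card H ≤ m * lb) :
    (liveStab N fs L).index ≤ m ∧ (liveStab N fs L).index ≠ 0 := by
  have h1 : lb ≤ Nat.card (liveStab N fs L) := hlb.trans (Subgroup.card_le_of_le (N.stabWords_le h))
  have h2 := Subgroup.card_mul_index (liveStab N fs L)
  have hH : 0 < Nat.card H := Nat.card_pos
  have hne : (liveStab N fs L).index ≠ 0 := Subgroup.FiniteIndex.index_ne_zero
  refine ⟨?_, hne⟩
  have hlb0 : 0 < lb := by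
    rcases Nat.eq_zero_or_pos lb with h0 | h0
    · rw [h0, Nat.mul_zero] at hm; omega
    · exact h0
  refine Nat.le_of_mul_le_mul_left ?_ hlb0
  calc lb * (liveStab N fs L).index ≤ Nat.card (liveStab N fs L) * (liveStab N fs L).index :=
        Nat.mul_le_mul_right _ h1
    _ = Nat.card H := h2
    _ ≤ m * lb := hm
    _ = lb * m := mul_comm _ _

theorem EdgeStab.of_levels {S : Setup} {N : Model S H Q} (ls : Nat → Level)
    (ws : Nat → List (List Nat))
    (hpt : ∀ e < S.edges.length, (ls e).base = (S.edge e).pt)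
    (hp : ∀ e < S.edges.length, okPairs (ws e) (S.edge e).src = true)
    (h : ∀ e < S.edges.length, ∀ h : H,
      (∀ i : Fin S.P.n, (i : Nat) = (ls e).base → N.M.act h i = i) → h ∈ N.M.sub (ws e)) :
    EdgeStab N := by
  intro e he x hx
  exact N.M.sub_le_of_pairs (hp e he) (h e he x fun i hi => hx i (hi.trans (hpt e he)))

end CfsgLib.DCE
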