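import Cfsg.Agent.Lib.DCE.Grp

/-!
Homomorphisms of presented groups given by words for the generators.
-/

namespace CfsgLib.DCE

variable {Q : Type*} [Group Q] {m : ℕ}

theorem wv_append (f : Fin m → Q) (u w : List Nat) : wv f (u ++ w) = wv f u * wv f w := by
  simp [wv]

theorem wv_cons (f : Fin m → Q) (x : Nat) (w : List Nat) :
    wv f (x :: w) = lv f x * wv f w := by
  simp [wv]

theorem wv_nil (f : Fin m → Q) : wv f [] = 1 := rfl

theorem wv_ivw (f : Fin m → Q) (w : List Nat) : wv f (ivw w) = (wv f w)⁻¹ := by
  induction w with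
  | nil => simp [ivw, wv]
  | cons x w ih =>
    rw [ivw, wv_append, ih, wv_cons, wv_cons, wv_nil, lv_xor, mul_one, mul_inv_rev]

/-- substitute words for generators -/
def subst (s : List (List Nat)) (w : List Nat) : List Nat :=
  w.flatMap fun x => if x % 2 = 0 then s.getD (x / 2) [] else ivw' (s.getD (x / 2) [])
where
  /-- inverse word, computable -/
  ivw' : List Nat → List Nat
  | [] => []
  | x :: w => ivw' w ++ [x ^^^ 1]

theorem ivw'_eq (w : List Nat) : subst.ivw' w = ivw w := by
  induction w with
  | nil => rfl
  | cons x w ih => rw [subst.ivw', ivw, ih]; rfl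

theorem wv_subst {n : ℕ} (f : Fin n → Q) {s : List (List Nat)} (hs : s.length = m) (w : List Nat) :
    wv (fun k : Fin m => wv f (s.getD k [])) w = wv f (subst s w) := by
  induction w with
  | nil => rfl
  | cons x w ih =>
    rw [subst, List.flatMap_cons, wv_cons, wv_append, ih]
    congr 1
    unfold lv
    by_cases h : x / 2 < m
    · rw [dif_pos h]
      split_ifs
      · rfl
      · rw [ivw'_eq, wv_ivw]
    · rw [dif_neg h, List.getD_eq_getElem?_getD, List.getElem?_eq_none (by omega)]
      simp [wv, subst.ivw']

theorem subst_rels {n : ℕ} {R : List (List Nat)} {R' : List (List Nat)} {s : List (List Nat)}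
    (hs : s.length = m) (h : (R.all fun w => R'.contains (subst s w)) = true) :
    ∀ w ∈ R, wv (fun k : Fin m => wv (Grp.gen (m := n) (rels := R')) (s.getD k [])) w = 1 := by
  intro w hw
  simp only [List.all_eq_true, List.contains_iff_mem] at h
  rw [wv_subst _ hs]
  exact Grp.wv_rel (h w hw)

end CfsgLib.DCE
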