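import Cfsg.Agent.Lib.DCE.Fast

/-!
Closed orbits of tuples of points: upper bounds for orders and tests for membership.
-/

namespace CfsgLib.DCE

open CfsgLib.PresCert

/-- A closed list of `b` tuples of length `m`, the first one the reference tuple. Points are packed
16 bits each; `nxt` has entry `d * r + a` for the image of tuple `d` under generator `a` of `r`. -/
structure TOrb where
  m : Nat
  b : Nat
  pts : BTree
  nxt : BTree

namespace TOrb

/-- a point of a tuple -/
noncomputable def get (T : TOrb) (d j : Nat) : Nat :=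
  Nat.land (Nat.shiftRight (T.pts.word d) (Nat.shiftLeft j (nat_lit 4))) (nat_lit 65535)

/-- the list is closed under the generators -/
noncomputable def okClosedT (ft : BTree) (n : Nat) (T : TOrb) (gens : List (List Nat)) : Bool :=
  Nat.blt 0 T.b && allBelow T.b fun d =>
    (allBelow T.m fun j => Nat.blt (T.get d j) n) &&
      allBelow gens.length fun a =>
        let t := T.nxt.word (Nat.add (Nat.mul d gens.length) a)
        Nat.blt t T.b &&
          allBelow T.m fun j => Nat.beq (fapp ft (gens.getD a []) (T.get d j)) (T.get t j)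

/-- the element `u⁻¹ v` sends the reference tuple to the one with number `hint` -/
noncomputable def okIn (ft : BTree) (T : TOrb) (u v : List Nat) (hint : Nat) : Bool :=
  Nat.blt hint T.b && allBelow T.m fun j =>
    Nat.beq (fapp ft v (bapp ft u (T.get (nat_lit 0) j))) (T.get hint j)

/-- the element `u v⁻¹` sends the reference tuple to the one with number `hint` -/
noncomputable def okDiv (ft : BTree) (T : TOrb) (u v : List Nat) (hint : Nat) : Bool :=
  Nat.blt hint T.b && allBelow T.m fun j =>
    Nat.beq (bapp ft v (fapp ft u (T.get (nat_lit 0) j))) (T.get hint j)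

variable {P : PermData} {H : Type*} [Group H] (M : Perms P H) (T : TOrb)

/-- the element sends the reference tuple to a listed one -/
def InX (x : H) : Prop :=
  ∃ d < T.b, ∀ j < T.m, ∀ i : Fin P.n, (i : Nat) = T.get 0 j → (M.act x i : Nat) = T.get d j

/-- the entries of the reference tuple -/
noncomputable def refs : List Nat := (List.range T.m).map (T.get 0)

theorem card_inX_le [Finite H] :
    Nat.card {x : H // T.InX M x} ≤ T.b * Nat.card (M.fixIn ⊤ T.refs) := by
  classical
  let rep : Fin T.b → H := fun d =>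
    if h : ∃ x : H, ∀ j < T.m, ∀ i : Fin P.n, (i : Nat) = T.get 0 j →
        (M.act x i : Nat) = T.get d j then h.choose else 1
  have hx : ∀ x : {x : H // T.InX M x}, ∃ d : Fin T.b,
      (x : H) * (rep d)⁻¹ ∈ M.fixIn ⊤ T.refs := by
    rintro ⟨x, d, hd, hx⟩
    refine ⟨⟨d, hd⟩, trivial, fun i hi => ?_⟩
    obtain ⟨j, hj, e⟩ := List.mem_map.1 hi
    have hex : ∃ x : H, ∀ j < T.m, ∀ i : Fin P.n, (i : Nat) = T.get 0 j →
        (M.act x i : Nat) = T.get d j := ⟨x, hx⟩
    have hr : rep ⟨d, hd⟩ = hex.choose := dif_pos hex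
    have e1 := hx j (List.mem_range.1 hj) i e.symm
    have e2 := hex.choose_spec j (List.mem_range.1 hj) i e.symm
    rw [← hr] at e2
    rw [M.act_mul, Fin.ext (e1.trans e2.symm), ← M.act_mul, mul_inv_cancel, M.act_one]
  choose d hd using hx
  let φ : {x : H // T.InX M x} → Fin T.b × M.fixIn ⊤ T.refs := fun x =>
    (d x, ⟨(x : H) * (rep (d x))⁻¹, hd x⟩)
  have hφ : Function.Injective φ := by
    intro x y e
    simp only [φ, Prod.mk.injEq, Subtype.mk.injEq] at e
    obtain ⟨e1, e2⟩ := e
    rw [e1] at e2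
    exact Subtype.ext (mul_right_cancel e2)
  have hc := Nat.card_le_card_of_injective φ hφ
  rwa [Nat.card_prod, Nat.card_eq_fintype_card (α := Fin T.b), Fintype.card_fin] at hc

theorem sub_inX [Finite H] {ft : BTree} (hf : okFlat P ft = true) {gens : List (List Nat)}
    (hg : ∀ w ∈ gens, ∀ x ∈ w, x < P.g) (h : okClosedT ft P.n T gens = true) :
    ∀ x ∈ M.sub gens, T.InX M x := by
  simp only [okClosedT, Bool.and_eq_true, Nat.blt_eq] at h
  obtain ⟨hb, ho⟩ := h
  have step : ∀ w ∈ gens, ∀ x, T.InX M x → T.InX M (x * M.val w) := by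
    rintro w hw x ⟨d, hd, hx⟩
    obtain ⟨a, ha, rfl⟩ := List.getElem_of_mem hw
    have e := allBelow_spec ho d hd
    simp only [Bool.and_eq_true] at e
    have e2 := allBelow_spec e.2 a ha
    simp only [Bool.and_eq_true, Nat.blt_eq, List.getD_eq_getElem?_getD,
      List.getElem?_eq_getElem ha, Option.getD_some] at e2
    refine ⟨_, e2.1, fun j hj i hi => ?_⟩
    have e3 := Nat.eq_of_beq_eq_true (allBelow_spec e2.2 j hj)
    rw [M.act_mul]
    have e4 := hx j hj i hi
    rw [← e4, M.fapp_act hf _ (hg _ hw)] at e3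
    exact e3
  intro g hg'
  have key : ∀ x, T.InX M x → T.InX M (x * g) := by
    let S : Submonoid H :=
      { carrier := {g | ∀ x, T.InX M x → T.InX M (x * g)}
        one_mem' := fun x hx => by rwa [mul_one]
        mul_mem' := fun {a b} ha hb x hx => by rw [← mul_assoc]; exact hb _ (ha x hx) }
    have hle : Submonoid.closure {g | ∃ w ∈ gens, M.val w = g} ≤ S :=
      Submonoid.closure_le.2 fun g ⟨w, hw, e⟩ x hx => e ▸ step w hw x hx
    rw [Perms.sub, ← Subgroup.mem_toSubmonoid, Subgroup.closure_toSubmonoid_of_finite] at hg'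
    exact hle hg'
  simpa using key 1 ⟨0, hb, fun j hj i hi => by rw [M.act_one]; exact hi⟩

theorem sub_card_le [Finite H] {ft : BTree} (hf : okFlat P ft = true) {gens : List (List Nat)}
    (hg : ∀ w ∈ gens, ∀ x ∈ w, x < P.g) (h : okClosedT ft P.n T gens = true) :
    Nat.card (M.sub gens) ≤ T.b * Nat.card (M.fixIn ⊤ T.refs) :=
  le_trans (Nat.card_le_card_of_injective
      (fun x : M.sub gens => (⟨x, T.sub_inX M hf hg h x x.2⟩ : {x : H // T.InX M x}))
      fun x y e => Subtype.ext (Subtype.mk.inj e))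
    (T.card_inX_le M)

/-- If the bound is attained, the listed tuples decide membership. -/
theorem inX_mem [Finite H] {ft : BTree} (hf : okFlat P ft = true) {gens : List (List Nat)}
    (hg : ∀ w ∈ gens, ∀ x ∈ w, x < P.g) (h : okClosedT ft P.n T gens = true)
    (hc : T.b * Nat.card (M.fixIn ⊤ T.refs) ≤ Nat.card (M.sub gens)) {x : H} (hx : T.InX M x) :
    x ∈ M.sub gens := by
  let φ : M.sub gens → {x : H // T.InX M x} := fun x => ⟨x, T.sub_inX M hf hg h x x.2⟩
  have hφ : Function.Injective φ := fun x y e => Subtype.ext (Subtype.mk.inj e)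
  have hb : Function.Bijective φ := by
    rw [Nat.bijective_iff_injective_and_card]
    exact ⟨hφ, le_antisymm (Nat.card_le_card_of_injective φ hφ) ((T.card_inX_le M).trans hc)⟩
  obtain ⟨y, hy⟩ := hb.2 ⟨x, hx⟩
  have : (y : H) = x := congrArg Subtype.val hy
  exact this ▸ y.2

theorem okIn_inX {ft : BTree} (hf : okFlat P ft = true) {u v : List Nat}
    (hu : ∀ x ∈ u, x < P.g) (hv : ∀ x ∈ v, x < P.g) {hint : Nat}
    (h : okIn ft T u v hint = true) : T.InX M ((M.val u)⁻¹ * M.val v) := by
  simp only [okIn, Bool.and_eq_true, Nat.blt_eq] at h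
  refine ⟨hint, h.1, fun j hj i hi => ?_⟩
  have e := Nat.eq_of_beq_eq_true (allBelow_spec h.2 j hj)
  rw [← hi, M.bapp_act hf u hu, M.fapp_act hf v hv] at e
  rwa [M.act_mul]

theorem okDiv_inX {ft : BTree} (hf : okFlat P ft = true) {u v : List Nat}
    (hu : ∀ x ∈ u, x < P.g) (hv : ∀ x ∈ v, x < P.g) {hint : Nat}
    (h : okDiv ft T u v hint = true) : T.InX M (M.val u * (M.val v)⁻¹) := by
  simp only [okDiv, Bool.and_eq_true, Nat.blt_eq] at h
  refine ⟨hint, h.1, fun j hj i hi => ?_⟩
  have e := Nat.eq_of_beq_eq_true (allBelow_spec h.2 j hj)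
  rw [← hi, M.fapp_act hf u hu, M.bapp_act hf v hv] at e
  rwa [M.act_mul]

end TOrb

end CfsgLib.DCE
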