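import Cfsg.Agent.Lib.DCE.Order
import Cfsg.Agent.Lib.DCE.Enum

/-!
Centralisers bounded through two base points and an equivariant map between the points.
-/

namespace CfsgLib.DCE

open CfsgLib.PresCert

/-- `pr` commutes with the letters -/
noncomputable def okProj (P : PermData) (pr : Nat → Nat) : Bool :=
  (allBelow P.n fun i => Nat.blt (pr i) P.n) && allBelow P.g fun x => allBelow P.n fun i =>
    Nat.beq (pr (P.img x i)) (P.img x (pr i))

/-- `R` lists the fixed points of a word, `F` contains those with `v` fixed points above them -/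
noncomputable def okFix (P : PermData) (pr : Nat → Nat) (w R : List Nat) (v : Nat) (F : List Nat) :
    Bool :=
  (allBelow P.n fun r => !(Nat.beq (P.app w r) r) || R.any fun s => Nat.beq s r) &&
    (R.all fun r => Nat.blt r P.n && Nat.beq (P.app w r) r) && decide R.Nodup &&
    R.all fun q =>
      !(Nat.beq (R.filter fun r => Nat.beq (pr r) q).length v) || F.any fun s => Nat.beq s q

variable {P : PermData} {H : Type*} [Group H] (M : Perms P H)

/-- the projection on points -/
def projPt {pr : Nat → Nat} (h : okProj P pr = true) (i : Fin P.n) : Fin P.n :=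
  ⟨pr i, by
    simp only [okProj, Bool.and_eq_true] at h
    have := allBelow_spec h.1 i i.2
    rwa [Nat.blt_eq] at this⟩

theorem pr_act {pr : Nat → Nat} (h : okProj P pr = true)
    (hgen : Subgroup.closure (Set.range M.gen) = ⊤) (g : H) (i : Fin P.n) :
    projPt h (M.act g i) = M.act g (projPt h i) := by
  have hg : g ∈ Subgroup.closure (Set.range M.gen) := by rw [hgen]; trivial
  induction hg using Subgroup.closure_induction generalizing i with
  | one => simp [Perms.act_one]
  | mul a b _ _ iha ihb => rw [Perms.act_mul, ihb, iha, ← Perms.act_mul]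
  | inv a _ iha =>
    have := iha (M.act a⁻¹ i)
    rw [← Perms.act_mul, inv_mul_cancel, Perms.act_one] at this
    rw [this, ← Perms.act_mul, mul_inv_cancel, Perms.act_one]
  | mem a ha =>
    obtain ⟨k, rfl⟩ := ha
    have hk : 2 * (k : Nat) < P.g := by rw [M.g_eq]; omega
    have e : lv M.gen (2 * k) = M.gen k := by simp [lv]
    have h' := h
    simp only [okProj, Bool.and_eq_true] at h'
    have h2 := allBelow_spec (allBelow_spec h'.2 _ hk) i i.2
    rw [Nat.beq_eq] at h2
    apply Fin.ext
    simp only [projPt, Perms.act, ← e, M.img _ hk]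
    rw [← h2]

include M in
/-- The centraliser of `a` has order at most `F.length * (F.length - 1) * c`. -/
theorem card_centralizer_le_two [Finite H] {pr : Nat → Nat} (h : okProj P pr = true)
    (hgen : Subgroup.closure (Set.range M.gen) = ⊤) {w R F : List Nat} {v : Nat}
    (hw : ∀ x ∈ w, x < P.g) (hf : okFix P pr w R v F = true) (p0 p1 : Fin P.n) (hne : p0 ≠ p1)
    (h0 : P.app w p0 = p0) (h1 : P.app w p1 = p1)
    (hv0 : (R.filter fun r => Nat.beq (pr r) p0).length = v)
    (hv1 : (R.filter fun r => Nat.beq (pr r) p1).length = v) {c : Nat}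
    (hc : Nat.card {g : H // g * M.val w = M.val w * g ∧ M.act g p0 = p0 ∧ M.act g p1 = p1} ≤ c) :
    Nat.card (Subgroup.centralizer ({M.val w} : Set H)) ≤ F.length * ((F.length - 1) * c) := by
  classical
  simp only [okFix, Bool.and_eq_true, List.all_eq_true, decide_eq_true_eq, Nat.blt_eq, Nat.beq_eq,
    Bool.or_eq_true, Bool.not_eq_true', List.any_eq_true] at hf
  obtain ⟨⟨⟨hall, hR⟩, hnd⟩, hF⟩ := hf
  have hbq : ∀ a b : Nat, Nat.beq a b = false → a ≠ b := fun a b hb e => by
    subst e; simp at hb
  let fixd : Finset (Fin P.n) := Finset.univ.filter fun r => P.app w r = r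
  have hfixd : ∀ r : Fin P.n, r ∈ fixd ↔ M.act (M.val w) r = r := fun r => by
    simp only [fixd, Finset.mem_filter, Finset.mem_univ, true_and]
    rw [M.app_eq w hw, Fin.val_inj]
  have hlen : ∀ q : Fin P.n, (fixd.filter fun r => projPt h r = q).card =
      (R.filter fun r => Nat.beq (pr r) q).length := by
    intro q
    rw [← List.toFinset_card_of_nodup (hnd.filter _)]
    refine Finset.card_bij (fun r _ => (r : Nat)) ?_ (fun a _ b _ e => Fin.ext e) ?_
    · intro r hr
      simp only [fixd, Finset.mem_filter, Finset.mem_univ, true_and] at hr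
      simp only [List.mem_toFinset, List.mem_filter]
      rcases allBelow_spec hall r r.2 |> (fun e => by simpa using e) with e | e
      · exact absurd hr.1 (hbq _ _ e)
      · refine ⟨e, ?_⟩
        simpa [projPt] using congrArg Fin.val hr.2
    · intro b hb
      simp only [List.mem_toFinset, List.mem_filter, Nat.beq_eq] at hb
      refine ⟨⟨b, (hR b hb.1).1⟩, ?_, rfl⟩
      simp only [fixd, Finset.mem_filter, Finset.mem_univ, true_and]
      exact ⟨(hR b hb.1).2, Fin.ext hb.2⟩
  let V : Finset (Fin P.n) := fixd.filter fun q => (fixd.filter fun r => projPt h r = q).card = v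
  have hV : V.card ≤ F.length := by
    refine le_trans ?_ (List.toFinset_card_le F)
    refine Finset.card_le_card_of_injOn (fun q : Fin P.n => (q : Nat)) (fun q hq => ?_)
      (fun a _ b _ e => Fin.ext e)
    simp only [V, Finset.coe_filter, Set.mem_setOf_eq] at hq
    obtain ⟨hq1, hq2⟩ := hq
    simp only [fixd, Finset.mem_filter, Finset.mem_univ, true_and] at hq1
    rcases allBelow_spec hall q q.2 |> (fun e => by simpa using e) with e | e
    · exact absurd hq1 (hbq _ _ e)
    · rcases hF _ e with e' | ⟨s, hs, es⟩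
      · rw [hlen] at hq2
        exact absurd hq2 (hbq _ _ e')
      · simp only [List.coe_toFinset, Set.mem_setOf_eq, ← es]; exact hs
  have hpV : ∀ p : Fin P.n, P.app w p = p →
      (R.filter fun r => Nat.beq (pr r) p).length = v → p ∈ V := fun p hp hpv => by
    simp only [V, Finset.mem_filter]
    exact ⟨by simp [fixd, hp], (hlen p).trans hpv⟩
  have hmove : ∀ g ∈ Subgroup.centralizer ({M.val w} : Set H), ∀ q ∈ V, M.act g q ∈ V := by
    intro g hg q hq
    rw [Subgroup.mem_centralizer_singleton_iff] at hg
    have hfx : ∀ r ∈ fixd, M.act g r ∈ fixd := fun r hr => by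
      rw [hfixd] at hr ⊢
      rw [← Perms.act_mul, hg, Perms.act_mul, hr]
    simp only [V, Finset.mem_filter] at hq ⊢
    refine ⟨hfx q hq.1, ?_⟩
    rw [← hq.2]
    refine (Finset.card_bij (fun r _ => M.act g r) ?_ ?_ ?_).symm
    · intro r hr
      simp only [Finset.mem_filter] at hr ⊢
      exact ⟨hfx r hr.1, by rw [pr_act M h hgen, hr.2]⟩
    · intro a _ b _ e
      have := congrArg (M.act g⁻¹) e
      rwa [← Perms.act_mul, ← Perms.act_mul, mul_inv_cancel, Perms.act_one, Perms.act_one] at this
    · intro b hb
      simp only [Finset.mem_filter] at hb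
      have hgi : g⁻¹ * M.val w = M.val w * g⁻¹ :=
        (Commute.inv_left (show Commute g (M.val w) from hg)).eq
      refine ⟨M.act g⁻¹ b, ?_, by rw [← Perms.act_mul, inv_mul_cancel, Perms.act_one]⟩
      simp only [Finset.mem_filter]
      refine ⟨?_, by rw [pr_act M h hgen, hb.2, ← Perms.act_mul, mul_inv_cancel, Perms.act_one]⟩
      rw [hfixd, ← Perms.act_mul, hgi, Perms.act_mul, (hfixd b).1 hb.1]
  let C := Subgroup.centralizer ({M.val w} : Set H)
  let T : Finset (Fin P.n × Fin P.n) := (V ×ˢ V).filter fun z => z.1 ≠ z.2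
  have hT : T.card ≤ F.length * (F.length - 1) := by
    have : T.card = V.card * (V.card - 1) := by
      rw [show T = V.offDiag from by ext z; simp [T, Finset.mem_offDiag, and_assoc],
        Finset.offDiag_card, Nat.mul_sub, mul_one]
    rw [this]
    exact Nat.mul_le_mul hV (Nat.sub_le_sub_right hV 1)
  let img : C → T := fun g => ⟨(M.act g p0, M.act g p1), by
    simp only [T, Finset.mem_filter, Finset.mem_product]
    refine ⟨⟨hmove g g.2 _ (hpV p0 h0 hv0), hmove g g.2 _ (hpV p1 h1 hv1)⟩, fun e => hne ?_⟩
    have := congrArg (M.act (g : H)⁻¹) e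
    rwa [← Perms.act_mul, ← Perms.act_mul, mul_inv_cancel, Perms.act_one, Perms.act_one] at this⟩
  have hfib : ∀ z : T, Nat.card {g : C // img g = z} ≤ c := by
    intro z
    by_cases hz : ∃ g, img g = z
    · obtain ⟨g₀, hg₀⟩ := hz
      refine le_trans (Nat.card_le_card_of_injective
        (fun g : {g : C // img g = z} =>
          (⟨((g.1 * g₀⁻¹ : C) : H),
            Subgroup.mem_centralizer_singleton_iff.1 (g.1 * g₀⁻¹ : C).2, ?_, ?_⟩ :
          {g : H // g * M.val w = M.val w * g ∧ M.act g p0 = p0 ∧ M.act g p1 = p1})) ?_) hc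
      · have e := congrArg (fun z : T => z.1.1) (g.2.trans hg₀.symm)
        simp only [img] at e
        rw [Subgroup.coe_mul, Subgroup.coe_inv, Perms.act_mul, e, ← Perms.act_mul, mul_inv_cancel,
          Perms.act_one]
      · have e := congrArg (fun z : T => z.1.2) (g.2.trans hg₀.symm)
        simp only [img] at e
        rw [Subgroup.coe_mul, Subgroup.coe_inv, Perms.act_mul, e, ← Perms.act_mul, mul_inv_cancel,
          Perms.act_one]
      · intro a b e
        have e' : a.1 * g₀⁻¹ = b.1 * g₀⁻¹ := Subtype.ext (congrArg Subtype.val e :)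
        exact Subtype.ext (mul_right_cancel e')
    · have : IsEmpty {g : C // img g = z} := ⟨fun g => hz ⟨g.1, g.2⟩⟩
      simp
  calc Nat.card C = Nat.card (Σ z : T, {g : C // img g = z}) :=
        (Nat.card_congr (Equiv.sigmaFiberEquiv img)).symm
    _ = ∑ z : T, Nat.card {g : C // img g = z} := Nat.card_sigma
    _ ≤ ∑ _z : T, c := Finset.sum_le_sum fun z _ => hfib z
    _ = T.card * c := by simp
    _ ≤ F.length * (F.length - 1) * c := Nat.mul_le_mul_right c hT
    _ = _ := Nat.mul_assoc _ _ _

end CfsgLib.DCE
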