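import Cfsg.Agent.Lib.DCE.Stabs

/-!
Orders from orbits along a base, with the elements given by words and no further tables.
-/

namespace CfsgLib.DCE

open CfsgLib.PresCert

/-- One level: base point, generators as words, orbit length, orbit entries
(`point + 2^16 * parent + 2^32 * generator`), and positions of the orbit points. -/
structure WLevel where
  base : Nat
  gens : List (List Nat)
  len : Nat
  orb : BTree
  pos : BTree

/-- the orbit of a level is correct -/
noncomputable def okWOrbit (P : PermData) (L : WLevel) : Bool :=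
  Nat.blt 0 L.len && Nat.beq (Nat.land (L.orb.word (nat_lit 0)) (nat_lit 65535)) L.base &&
    Nat.blt L.base P.n &&
    (L.gens.all fun w => w.all fun x => Nat.blt x P.g) &&
    allBelow L.len fun p =>
      let e := L.orb.word p
      let pt := Nat.land e (nat_lit 65535)
      let par := Nat.land (Nat.shiftRight e (nat_lit 16)) (nat_lit 65535)
      Nat.blt pt P.n && Nat.beq (L.pos.word pt) p &&
        (Nat.beq p 0 || (Nat.blt par p && Nat.blt (Nat.shiftRight e (nat_lit 32)) L.gens.length &&
          Nat.beq (P.app (L.gens.getD (Nat.shiftRight e (nat_lit 32)) [])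
            (Nat.land (L.orb.word par) (nat_lit 65535))) pt))

/-- every level is correct and its generators fix the earlier base points -/
noncomputable def okWLevels (P : PermData) : List Nat → List WLevel → Bool
  | _, [] => true
  | bs, L :: ls =>
    okWOrbit P L &&
      (L.gens.all fun w => bs.all fun b => Nat.beq (P.app w b) b) &&
      okWLevels P (L.base :: bs) ls

/-- Each further element has the same images of the base points as a product of earlier ones. -/
noncomputable def okEls (P : PermData) (base : List Nat) :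
    List (List Nat) → List (List Nat × List Nat) → Bool
  | _, [] => true
  | known, e :: l =>
    (e.1.all fun x => Nat.blt x P.g) && (known.all fun w => w.all fun x => Nat.blt x P.g) &&
      (e.2.all fun j => Nat.blt j known.length) &&
      (base.all fun b =>
        Nat.beq (P.app e.1 b) (P.app (e.2.flatMap fun j => known.getD j []) b)) &&
      okEls P base (known ++ [e.1]) l

variable {P : PermData} {H : Type*} [Group H] (M : Perms P H)

/-- the elements of `G` fixing the listed points -/
def Perms.fixIn (G : Subgroup H) (bs : List Nat) : Subgroup H where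
  carrier := {h | h ∈ G ∧ ∀ i : Fin P.n, (i : Nat) ∈ bs → M.act h i = i}
  one_mem' := ⟨one_mem _, fun i _ => M.act_one i⟩
  mul_mem' := by
    intro a b ha hb
    exact ⟨mul_mem ha.1 hb.1, fun i hi => by rw [M.act_mul, ha.2 i hi, hb.2 i hi]⟩
  inv_mem' := by
    intro a ha
    refine ⟨inv_mem ha.1, fun i hi => ?_⟩
    conv_lhs => rw [← ha.2 i hi]
    rw [← M.act_mul, mul_inv_cancel, M.act_one]

theorem Perms.wlevels_bound [Finite H] (G : Subgroup H) :
    ∀ (ls : List WLevel) (bs : List Nat), okWLevels P bs ls = true →
      (∀ L ∈ ls, ∀ w ∈ L.gens, M.val w ∈ G) →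
      (ls.map WLevel.len).prod * Nat.card (M.fixIn G ((ls.map WLevel.base).reverse ++ bs)) ≤
        Nat.card (M.fixIn G bs)
  | [], bs, _, _ => by simp
  | L :: ls, bs, h, hG => by
    simp only [okWLevels, okWOrbit, Bool.and_eq_true, List.all_eq_true, Nat.blt_eq,
      Nat.beq_eq] at h
    obtain ⟨⟨⟨⟨⟨⟨hlen, horb0⟩, hbase⟩, hgens⟩, horb'⟩, hfix⟩, hrest⟩ := h
    have horb := fun p hp => allBelow_spec horb' p hp
    simp only [Bool.and_eq_true, Bool.or_eq_true, Nat.blt_eq, Nat.beq_eq] at horb
    have ih := Perms.wlevels_bound G ls _ hrest fun L' hL' => hG L' (List.mem_cons_of_mem _ hL')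
    let b : Fin P.n := ⟨L.base, hbase⟩
    have key : ∀ p, p < L.len → ∃ σ ∈ M.fixIn G bs,
        ((M.act σ b : Fin P.n) : Nat) = Nat.land (L.orb.word p) 65535 := by
      intro p
      induction p using Nat.strong_induction_on with
      | _ p ihp =>
        intro hp
        obtain ⟨-, hp0 | ⟨⟨hpar, hk⟩, himg⟩⟩ := horb p hp
        · subst hp0
          exact ⟨1, one_mem _, by rw [horb0, M.act_one]⟩
        obtain ⟨σ, hσ, eσ⟩ := ihp _ hpar (hpar.trans hp)
        have hmem : L.gens.getD (Nat.shiftRight (L.orb.word p) 32) [] ∈ L.gens := by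
          rw [List.getD_eq_getElem?_getD, List.getElem?_eq_getElem hk]
          exact List.getElem_mem hk
        refine ⟨σ * M.val _, mul_mem hσ ⟨hG L (List.mem_cons_self ..) _ hmem, fun i hi => ?_⟩, ?_⟩
        · refine Fin.ext ?_
          rw [← M.app_eq _ (hgens _ hmem)]
          exact hfix _ hmem i hi
        · rw [M.act_mul, ← M.app_eq _ (hgens _ hmem), eσ]
          exact himg
    choose σ hσ eσ using key
    let φ : Fin L.len × M.fixIn G (L.base :: bs) → M.fixIn G bs := fun q =>
      ⟨(q.2 : H) * σ q.1 q.1.2, mul_mem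
        ⟨q.2.2.1, fun i hi => q.2.2.2 i (List.mem_cons_of_mem _ hi)⟩ (hσ _ _)⟩
    have hφ : Function.Injective φ := by
      rintro ⟨p, τ⟩ ⟨p', τ'⟩ h
      have h' : (τ : H) * σ p p.2 = (τ' : H) * σ p' p'.2 := congrArg Subtype.val h
      have hb : M.act (τ : H) b = b := τ.2.2 b (List.mem_cons_self ..)
      have hb' : M.act (τ' : H) b = b := τ'.2.2 b (List.mem_cons_self ..)
      have hp : (p : Nat) = p' := by
        have e := congrArg (fun g : H => ((M.act g b : Fin P.n) : Nat)) h'
        simp only [M.act_mul, hb, hb', eσ] at e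
        rw [← (horb p p.2).1.2, ← (horb p' p'.2).1.2, e]
      obtain rfl : p = p' := Fin.ext hp
      exact Prod.ext rfl (Subtype.ext (mul_right_cancel h'))
    have hc := Nat.card_le_card_of_injective φ hφ
    rw [Nat.card_prod, Nat.card_eq_fintype_card, Fintype.card_fin] at hc
    have ih' := le_trans (Nat.mul_le_mul_left L.len ih) hc
    simpa [mul_assoc, List.append_assoc] using ih'

theorem Perms.val_flatMap (known : List (List Nat)) (G : Subgroup H)
    (hk : ∀ w ∈ known, M.val w ∈ G) : ∀ js : List Nat,
    (∀ j ∈ js, j < known.length) → M.val (js.flatMap fun j => known.getD j []) ∈ G := by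
  intro js
  induction js with
  | nil => intro _; simp [Perms.val, wv]
  | cons j js ih =>
    intro hj
    rw [List.flatMap_cons, M.val_append]
    refine mul_mem (hk _ ?_) (ih fun i hi => hj i (List.mem_cons_of_mem _ hi))
    rw [List.getD_eq_getElem?_getD, List.getElem?_eq_getElem (hj j (List.mem_cons_self ..))]
    exact List.getElem_mem _

/-- the listed elements lie in the subgroup generated by the first ones -/
theorem Perms.els_mem {base : List Nat}
    (inj : ∀ h : H, (∀ i : Fin P.n, (i : Nat) ∈ base → M.act h i = i) → h = 1)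
    (hb : ∀ b ∈ base, b < P.n) (G : Subgroup H) :
    ∀ (l : List (List Nat × List Nat)) (known : List (List Nat)),
      okEls P base known l = true → (∀ w ∈ known, M.val w ∈ G) →
      ∀ w ∈ known ++ l.map Prod.fst, M.val w ∈ G
  | [], known, _, hk => by simpa using hk
  | e :: l, known, h, hk => by
    simp only [okEls, Bool.and_eq_true, List.all_eq_true, Nat.blt_eq, Nat.beq_eq] at h
    obtain ⟨⟨⟨⟨h1, h0⟩, h2⟩, h3⟩, h4⟩ := h
    have hlt : ∀ x ∈ e.2.flatMap fun j => known.getD j [], x < P.g := by
      intro x hx
      obtain ⟨j, hj, hx⟩ := List.mem_flatMap.1 hx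
      rw [List.getD_eq_getElem?_getD, List.getElem?_eq_getElem (h2 j hj)] at hx
      exact h0 _ (List.getElem_mem _) x hx
    have he : M.val e.1 = M.val (e.2.flatMap fun j => known.getD j []) := by
      rw [← mul_inv_eq_one]
      refine inj _ fun i hi => ?_
      have := h3 i hi
      rw [M.app_eq _ h1, M.app_eq _ hlt] at this
      rw [M.act_mul, show M.act (M.val e.1) i =
          M.act (M.val (e.2.flatMap fun j => known.getD j [])) i from Fin.ext this,
        ← M.act_mul, mul_inv_cancel, M.act_one]
    have hk' : ∀ w ∈ known ++ [e.1], M.val w ∈ G := by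
      intro w hw
      rcases List.mem_append.1 hw with hw | hw
      · exact hk w hw
      · obtain rfl := List.mem_singleton.1 hw
        rw [he]
        exact M.val_flatMap known G hk _ h2
    simpa [List.append_assoc] using Perms.els_mem inj hb G l _ h4 hk'

/-- If `H` is no larger than the bound from the orbits then it acts faithfully. -/
theorem Perms.wfaithful [Finite H] (ls : List WLevel) (hl : okWLevels P [] ls = true)
    (hH : Nat.card H ≤ (ls.map WLevel.len).prod) :
    (∀ h : H, (∀ i : Fin P.n, (i : Nat) ∈ ls.map WLevel.base → M.act h i = i) → h = 1) ∧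
      Nat.card H = (ls.map WLevel.len).prod := by
  have h1 := M.wlevels_bound ⊤ ls [] hl fun _ _ _ _ => trivial
  have h2 : Nat.card (M.fixIn ⊤ []) ≤ Nat.card H := Subgroup.card_le_card_group _
  have hpos : 0 < Nat.card (M.fixIn ⊤ ((ls.map WLevel.base).reverse ++ [])) := Nat.card_pos
  have hp := Nat.le_mul_of_pos_right (ls.map WLevel.len).prod hpos
  have heq : Nat.card H = (ls.map WLevel.len).prod := by omega
  have hpos' : 0 < (ls.map WLevel.len).prod := heq ▸ Nat.card_pos
  have hfix : Nat.card (M.fixIn ⊤ ((ls.map WLevel.base).reverse ++ [])) = 1 := by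
    refine le_antisymm (Nat.le_of_mul_le_mul_left ?_ hpos') hpos
    rw [mul_one]; omega
  refine ⟨fun h hh => ?_, heq⟩
  have hmem : h ∈ M.fixIn ⊤ ((ls.map WLevel.base).reverse ++ []) :=
    ⟨trivial, fun i hi => hh i (by simpa using hi)⟩
  rw [Subgroup.eq_bot_of_card_eq _ hfix] at hmem
  exact Subgroup.mem_bot.1 hmem

/-- A lower bound for the order of a subgroup given by words. -/
theorem Perms.wsub_card [Finite H] {base : List Nat}
    (inj : ∀ h : H, (∀ i : Fin P.n, (i : Nat) ∈ base → M.act h i = i) → h = 1)
    (hb : ∀ b ∈ base, b < P.n) {ws : List (List Nat)} {els : List (List Nat × List Nat)}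
    (he : okEls P base ws els = true) (ls : List WLevel) (hl : okWLevels P [] ls = true)
    (hg : (ls.all fun L => L.gens.all fun w => (ws ++ els.map Prod.fst).contains w) = true) :
    (ls.map WLevel.len).prod ≤ Nat.card (M.sub ws) := by
  simp only [List.all_eq_true, List.contains_iff_mem] at hg
  have hmem := M.els_mem inj hb (M.sub ws) els ws he fun w hw =>
    Subgroup.subset_closure ⟨w, hw, rfl⟩
  have h1 := M.wlevels_bound (M.sub ws) ls [] hl fun L hL w hw => hmem w (hg L hL w hw)
  refine (Nat.le_mul_of_pos_right _ Nat.card_pos).trans (h1.trans ?_)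
  exact Subgroup.card_le_of_le fun x hx => hx.1

/-- The stabiliser of a point is generated by the given words, by counting. -/
theorem Perms.wstab_eq [Finite H] {n : ℕ} (hn : Nat.card H = n) (L : WLevel)
    (hl : okWLevels P [] [L] = true) {ws : List (List Nat)}
    (hfix : (ws.all fun w => (w.all fun x => Nat.blt x P.g) &&
      Nat.beq (P.app w L.base) L.base) = true) {v : ℕ} (hv : v ≤ Nat.card (M.sub ws))
    (hcount : n ≤ L.len * v) (h : H)
    (hh : ∀ i : Fin P.n, (i : Nat) = L.base → M.act h i = i) : h ∈ M.sub ws := by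
  simp only [List.all_eq_true, Bool.and_eq_true, Nat.blt_eq, Nat.beq_eq] at hfix
  have hle : M.sub ws ≤ M.fixIn ⊤ [L.base] := by
    rw [Perms.sub, Subgroup.closure_le]
    rintro _ ⟨w, hw, rfl⟩
    refine ⟨trivial, fun i hi => Fin.ext ?_⟩
    obtain ⟨h1, h2⟩ := hfix w hw
    rw [← M.app_eq w h1 i, List.mem_singleton.1 hi]
    exact h2
  have h1 := M.wlevels_bound ⊤ [L] [] hl fun _ _ _ _ => trivial
  simp only [List.map_cons, List.map_nil, List.prod_cons, List.prod_nil, mul_one,
    List.reverse_singleton, List.append_nil] at h1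
  have h2 : Nat.card (M.fixIn ⊤ []) ≤ n := hn ▸ Subgroup.card_le_card_group _
  have hlen : 0 < L.len := by
    rcases Nat.eq_zero_or_pos L.len with h0 | h0
    · rw [h0, Nat.zero_mul] at hcount
      exact absurd (Nat.le_zero.1 hcount) (hn ▸ (Nat.card_pos (α := H)).ne')
    · exact h0
  have heq : M.sub ws = M.fixIn ⊤ [L.base] := by
    refine Subgroup.eq_of_le_of_card_ge hle (Nat.le_of_mul_le_mul_left ?_ hlen)
    exact (h1.trans h2).trans (hcount.trans (Nat.mul_le_mul_left _ hv))
  rw [heq]
  exact ⟨trivial, fun i hi => hh i (List.mem_singleton.1 hi)⟩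

end CfsgLib.DCE
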